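import Cfsg.Agent.Lib.Coprime.Hall
import Cfsg.Agent.Lib.Coprime.Action
import Cfsg.Agent.Lib.FgsC.HallHigmanB
import Cfsg.Agent.Lib.PLocal.PSolvable
import Cfsg.Agent.Lib.Transfer.AbelianHall
import Cfsg.Agent.Lib.Transfer.NormalPComplement
import Cfsg.Agent.Lib.Base.Cores

/-!
# Simple groups with abelian `p'`-subgroups: maximal `p'`-subgroups

Standing hypotheses: `G` is a non-abelian simple group all of whose proper subgroups are solvable,
`p` divides its order and every `p'`-subgroup is abelian.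
-/

set_option autoImplicit false
set_option linter.unusedSectionVars false
set_option linter.style.haveILetI false

open Subgroup Cfsg
open scoped Pointwise commutatorElement

universe u

namespace CfsgLib.FgsC.APP

variable {G : Type u} [Group G] [Finite G] {p : ℕ} [hp : Fact p.Prime]

/-- The standing hypotheses on a minimal configuration. -/
structure Setup (p : ℕ) (G : Type u) [Group G] : Prop where
  simple : IsSimpleGroup G
  nonab : ∃ x y : G, x * y ≠ y * x
  solv : ∀ H : Subgroup G, H ≠ ⊤ → Group.IsSolvable H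
  ab : ∀ H : Subgroup G, (Nat.card H).Coprime p → IsMulCommutative H
  dvd : p ∣ Nat.card G

/-- A maximal `p'`-subgroup. -/
structure MaxP (p : ℕ) (K : Subgroup G) : Prop where
  cop : (Nat.card K).Coprime p
  max : ∀ H : Subgroup G, (Nat.card H).Coprime p → K ≤ H → H = K

theorem pi_iff {X : Type*} [Group X] [Finite X] {H : Subgroup X} :
    IsPiSubgroup {q | q ≠ p} H ↔ (Nat.card H).Coprime p := by
  constructor
  · intro h
    rw [Nat.coprime_comm, hp.out.coprime_iff_not_dvd]
    exact fun hd => h p hp.out hd rfl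
  · rintro h q hq hd rfl
    exact hq.ne_one (Nat.eq_one_of_dvd_coprimes h hd dvd_rfl)

theorem exists_maxP {H : Subgroup G} (hH : (Nat.card H).Coprime p) :
    ∃ K, H ≤ K ∧ MaxP p K := by
  obtain ⟨K, hHK, hK, hmax⟩ := Finite.exists_le_maximal
    (p := fun K : Subgroup G => (Nat.card K).Coprime p) hH
  exact ⟨K, hHK, hK, fun L hL hKL => le_antisymm (hmax hL hKL) hKL⟩

theorem comm_of_mem (hs : Setup p G) {H : Subgroup G} (hH : (Nat.card H).Coprime p) {a b : G}
    (ha : a ∈ H) (hb : b ∈ H) : a * b = b * a :=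
  congrArg Subtype.val ((hs.ab H hH).is_comm.comm ⟨a, ha⟩ ⟨b, hb⟩)

theorem le_centralizer_of_mem (hs : Setup p G) {H : Subgroup G} (hH : (Nat.card H).Coprime p)
    {a : G} (ha : a ∈ H) : H ≤ centralizer ({a} : Set G) := fun _ hb =>
  mem_centralizer_singleton_iff.mpr (comm_of_mem hs hH hb ha)

theorem Setup.eq_bot_or_top (hs : Setup p G) {N : Subgroup G} (hN : N.Normal) :
    N = ⊥ ∨ N = ⊤ := @IsSimpleGroup.eq_bot_or_eq_top_of_normal G _ hs.simple N hN

theorem Setup.top_not_cop (hs : Setup p G) : ¬ (Nat.card (⊤ : Subgroup G)).Coprime p := by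
  rw [card_top, Nat.coprime_comm, hp.out.coprime_iff_not_dvd]
  exact not_not_intro hs.dvd

theorem Setup.ne_top_of_cop (hs : Setup p G) {K : Subgroup G} (hK : (Nat.card K).Coprime p) :
    K ≠ ⊤ := fun h => hs.top_not_cop (h ▸ hK)

theorem Setup.center_eq_bot (hs : Setup p G) : center G = ⊥ := by
  rcases hs.eq_bot_or_top (inferInstance : (center G).Normal) with h | h
  · exact h
  · obtain ⟨x, y, hxy⟩ := hs.nonab
    exact absurd (mem_center_iff.mp (h ▸ mem_top y) x) hxy

theorem Setup.centralizer_ne_top (hs : Setup p G) {a : G} (ha : a ≠ 1) :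
    centralizer ({a} : Set G) ≠ ⊤ := fun h => ha <| by
  rw [← mem_bot, ← hs.center_eq_bot, mem_center_iff]
  intro g
  exact (mem_centralizer_singleton_iff.mp (h ▸ mem_top g))

theorem Setup.commutator_eq_top (hs : Setup p G) : _root_.commutator G = ⊤ := by
  rcases hs.eq_bot_or_top (inferInstance : (_root_.commutator G).Normal) with h | h
  · obtain ⟨x, y, hxy⟩ := hs.nonab
    have : ⁅x, y⁆ ∈ _root_.commutator G := commutator_mem_commutator (mem_top x) (mem_top y)
    rw [h, mem_bot, commutatorElement_eq_one_iff_mul_comm] at this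
    exact absurd this hxy
  · exact h

theorem Setup.normalizer_ne_top_of_cop (hs : Setup p G) {K : Subgroup G}
    (hK : (Nat.card K).Coprime p) (hne : K ≠ ⊥) : normalizer (K : Set G) ≠ ⊤ := fun h =>
  (hs.eq_bot_or_top (normalizer_eq_top_iff.mp h)).elim hne (hs.ne_top_of_cop hK)

/-- A `p'`-subgroup maximal in a proper subgroup is Hall in it. -/
theorem hall_of_max (hs : Setup p G) {K M : Subgroup G} (hM : M ≠ ⊤) (hKM : K ≤ M)
    (hK : (Nat.card K).Coprime p)
    (hmax : ∀ H : Subgroup G, H ≤ M → (Nat.card H).Coprime p → K ≤ H → H = K) :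
    (∀ q : ℕ, q.Prime → q ≠ p → ¬ q ∣ K.relIndex M) ∧
    ∀ U : Subgroup G, U ≤ M → (Nat.card U).Coprime p → ∃ g ∈ M, ∀ u ∈ U, g * u * g⁻¹ ∈ K := by
  haveI := hs.solv M hM
  have hD := CfsgLib.Coprime.hallD_of_solvable (G := M) {q | q ≠ p}
  have hcardK : Nat.card (K.subgroupOf M) = Nat.card K :=
    Nat.card_congr (subgroupOfEquivOfLe hKM).toEquiv
  obtain ⟨H, hH, hKH⟩ := hD.exists_le (U := K.subgroupOf M) (pi_iff.mpr (hcardK ▸ hK))
  have hHK : H = K.subgroupOf M := by
    have h1 := hmax (H.map M.subtype) (map_subtype_le H)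
      (by rw [card_map_of_injective M.subtype_injective]; exact pi_iff.mp hH.1)
      (by rw [← map_subgroupOf_eq_of_le hKM]; exact map_mono hKH)
    rw [← h1]
    exact (comap_map_eq_self_of_injective M.subtype_injective H).symm
  refine ⟨fun q hq hqp hd => hH.2 q hq hqp (by rw [hHK]; exact hd), fun U hU hUc => ?_⟩
  obtain ⟨g, hg⟩ := hD.conj_le (U := U.subgroupOf M)
    (pi_iff.mpr (by rw [Nat.card_congr (subgroupOfEquivOfLe hU).toEquiv]; exact hUc)) hH
  refine ⟨g, g.2, fun u hu => ?_⟩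
  have h2 : g * ⟨u, hU hu⟩ * g⁻¹ ∈ H := hg (Subgroup.smul_mem_pointwise_smul (⟨u, hU hu⟩ : M)
    (MulAut.conj g) (U.subgroupOf M) (mem_subgroupOf.mpr hu))
  rw [hHK, mem_subgroupOf] at h2
  simpa using h2

namespace MaxP

variable {K : Subgroup G}

theorem hall_index (hs : Setup p G) (hK : MaxP p K) {M : Subgroup G} (hM : M ≠ ⊤) (hKM : K ≤ M) :
    ∀ q : ℕ, q.Prime → q ≠ p → ¬ q ∣ K.relIndex M :=
  (hall_of_max hs hM hKM hK.cop fun H _ => hK.max H).1

theorem conj_into (hs : Setup p G) (hK : MaxP p K) {M U : Subgroup G} (hM : M ≠ ⊤) (hKM : K ≤ M)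
    (hU : U ≤ M) (hUc : (Nat.card U).Coprime p) : ∃ g ∈ M, ∀ u ∈ U, g * u * g⁻¹ ∈ K :=
  (hall_of_max hs hM hKM hK.cop fun H _ => hK.max H).2 U hU hUc

/-- An element of `p'`-order commuting with `a ∈ K` is conjugate into `K` by an element
centralising `a`. -/
theorem elt_conj_into (hs : Setup p G) (hK : MaxP p K) {a x : G} (ha : a ∈ K) (ha1 : a ≠ 1)
    (hx : x * a = a * x) (hxc : (orderOf x).Coprime p) :
    ∃ g ∈ centralizer ({a} : Set G), g * x * g⁻¹ ∈ K := by
  obtain ⟨g, hg, h⟩ := hK.conj_into hs (hs.centralizer_ne_top ha1)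
    (le_centralizer_of_mem hs hK.cop ha)
    (U := zpowers x) (zpowers_le.mpr (mem_centralizer_singleton_iff.mpr hx))
    (by rwa [Nat.card_zpowers])
  exact ⟨g, hg, h x (mem_zpowers x)⟩

theorem normal_le (hs : Setup p G) (hK : MaxP p K) (hne : K ≠ ⊥) {U : Subgroup G}
    (hU : U ≤ normalizer (K : Set G)) (hUc : (Nat.card U).Coprime p) : U ≤ K := by
  obtain ⟨g, hg, h⟩ := hK.conj_into hs (hs.normalizer_ne_top_of_cop hK.cop hne) le_normalizer hU hUc
  intro u hu
  exact (mem_set_normalizer_iff.mp hg u).mpr (h u hu)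

theorem elt_le (hs : Setup p G) (hK : MaxP p K) (hne : K ≠ ⊥) {x : G}
    (hx : x ∈ normalizer (K : Set G)) (hxc : (orderOf x).Coprime p) : x ∈ K :=
  hK.normal_le hs hne (zpowers_le.mpr hx) (by rwa [Nat.card_zpowers]) (mem_zpowers x)

theorem exists_sylow_le (hs : Setup p G) (hK : MaxP p K) {q : ℕ} [hq : Fact q.Prime]
    (hqK : q ∣ Nat.card K) : ∃ Q : Sylow q G, (Q : Subgroup G) ≤ K := by
  have hqp : q ≠ p := fun h => hq.out.ne_one (Nat.eq_one_of_dvd_coprimes hK.cop hqK (h ▸ dvd_rfl))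
  obtain ⟨a, ha⟩ := exists_prime_orderOf_dvd_card' q hqK
  have ha1 : (a : G) ≠ 1 := fun h => hq.out.ne_one (by
    rw [← ha, orderOf_eq_one_iff]; exact Subtype.ext h)
  have haq : IsPGroup q (zpowers (a : G)) := IsPGroup.of_card (n := 1) (by
    rw [Nat.card_zpowers, pow_one, ← ha]; exact orderOf_injective K.subtype K.subtype_injective a)
  obtain ⟨Q, hQ⟩ := haq.exists_le_sylow
  have hQc : (Nat.card Q).Coprime p := by
    obtain ⟨k, hk⟩ := Q.2.exists_card_eq
    rw [hk]
    exact Nat.Coprime.pow_left k ((Nat.coprime_primes hq.out hp.out).mpr hqp)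
  obtain ⟨g, -, h⟩ := hK.conj_into hs (hs.centralizer_ne_top ha1)
    (le_centralizer_of_mem hs hK.cop a.2) (U := (Q : Subgroup G))
    (le_centralizer_of_mem hs hQc (hQ (mem_zpowers _))) hQc
  refine ⟨g • Q, fun x hx => ?_⟩
  rw [Sylow.coe_subgroup_smul, mem_pointwise_smul_iff_inv_smul_mem] at hx
  have := h _ hx
  simpa [MulAut.smul_def, mul_assoc] using this

open scoped IsMulCommutative in
/-- An element of `K` centralised by `N(K)` is trivial. -/
theorem eq_one_of_central (hs : Setup p G) (hK : MaxP p K) {c : G} (hc : c ∈ K)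
    (hcent : ∀ n ∈ normalizer (K : Set G), n * c = c * n) : c = 1 := by
  by_contra hne
  obtain ⟨q, hq, hqd⟩ := Nat.exists_prime_and_dvd (n := orderOf c)
    (by rwa [Ne, orderOf_eq_one_iff])
  haveI : Fact q.Prime := ⟨hq⟩
  set a := c ^ (orderOf c / q) with hadef
  have hao : orderOf a = q := orderOf_pow_orderOf_div (orderOf_pos c).ne' hqd
  have haK : a ∈ K := pow_mem hc _
  have hacent : ∀ n ∈ normalizer (K : Set G), n * a = a * n := fun n hn =>
    (Commute.pow_right (hcent n hn) _)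
  have ha1 : a ≠ 1 := fun h => hq.ne_one (by rw [← hao, h, orderOf_one])
  have hqK : q ∣ Nat.card K := by
    rw [← hao, show orderOf a = orderOf (⟨a, haK⟩ : K) from
      orderOf_injective K.subtype K.subtype_injective ⟨a, haK⟩]
    exact orderOf_dvd_natCard _
  obtain ⟨Q, hQK⟩ := hK.exists_sylow_le hs hqK
  have hQC : (Q : Subgroup G) ≤ centralizer ({a} : Set G) :=
    hQK.trans (le_centralizer_of_mem hs hK.cop haK)
  have haQ : a ∈ (Q : Subgroup G) := by
    have hsup : IsPGroup q ↥(zpowers a ⊔ (Q : Subgroup G)) := by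
      refine (IsPGroup.of_card (n := 1) (by rw [Nat.card_zpowers, hao, pow_one])).to_sup_of_normal_right'
        Q.2 ?_
      rw [zpowers_le]
      refine (le_centralizer_iff.mp (fun x hx => ?_) (mem_zpowers a) |> centralizer_le_normalizer _)
      exact mem_centralizer_iff.mpr fun y hy => by
        obtain ⟨i, rfl⟩ := mem_zpowers_iff.mp hy
        exact (Commute.zpow_left (mem_centralizer_singleton_iff.mp (hQC hx)).symm i)
    exact (Q.3 hsup le_sup_right) ▸ mem_sup_left (mem_zpowers a)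
  have hQc : (Nat.card Q).Coprime p := hK.cop.coprime_dvd_left (card_dvd_of_le hQK)
  haveI : IsMulCommutative (Q : Subgroup G) := hs.ab _ hQc
  have hCQ : centralizer ((Q : Subgroup G) : Set G) ≠ ⊤ := fun h =>
    hs.centralizer_ne_top ha1 (eq_top_iff.mpr fun g _ =>
      mem_centralizer_singleton_iff.mpr ((mem_centralizer_iff.mp (h ▸ mem_top g) a haQ).symm))
  have hKCQ : K ≤ centralizer ((Q : Subgroup G) : Set G) := fun x hx =>
    mem_centralizer_iff.mpr fun y hy => comm_of_mem hs hK.cop (hQK hy) hx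
  have key : ∀ (k : ℕ) (g₀ : G), g₀⁻¹ * a ^ k * g₀ ∈ (Q : Subgroup G) →
      g₀⁻¹ * a ^ k * g₀ = a ^ k := by
    intro k g₀ hk
    obtain ⟨n, hn, e⟩ := Sylow.conj_eq_normalizer_conj_of_mem Q (a ^ k) g₀ (pow_mem haQ k) hk
    rw [e]
    -- `n` acts on `Q` as an element of `N(K)`
    have hQK' : (Q : Subgroup G) ≤ K.map (MulAut.conj n).toMonoidHom := by
      intro y hy
      refine ⟨n⁻¹ * y * n, hQK ?_, by simp [mul_assoc]⟩
      have h := (mem_set_normalizer_iff.mp (inv_mem hn) y).mp hy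
      rw [inv_inv] at h
      exact h
    have hKc : (Nat.card (K.map (MulAut.conj n).toMonoidHom)).Coprime p := by
      rw [card_map_of_injective (MulAut.conj n).injective]; exact hK.cop
    obtain ⟨c', hc', h'⟩ := hK.conj_into hs hCQ hKCQ
      (U := K.map (MulAut.conj n).toMonoidHom)
      (fun x hx => mem_centralizer_iff.mpr fun y hy => comm_of_mem hs hKc (hQK' hy) hx) hKc
    have hm : c' * n ∈ normalizer (K : Set G) := by
      rw [mem_normalizer_iff_map_conj_eq]
      refine eq_of_le_of_card_ge ?_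
        (card_map_of_injective (MulAut.conj (c' * n)).injective).ge
      rintro _ ⟨x, hx, rfl⟩
      have := h' _ ⟨x, hx, rfl⟩
      simpa [mul_assoc] using this
    have h1 : (c' * n) * a ^ k = a ^ k * (c' * n) := Commute.pow_right (hacent _ hm) k
    have h2 : c' * a ^ k = a ^ k * c' :=
      (mem_centralizer_iff.mp hc' _ (pow_mem haQ k)).symm
    have h3 : n * a ^ k = a ^ k * n := by
      apply mul_left_cancel (a := c')
      rw [← mul_assoc, h1, ← mul_assoc, ← mul_assoc, h2]
    calc n⁻¹ * a ^ k * n = n⁻¹ * (a ^ k * n) := mul_assoc _ _ _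
      _ = a ^ k := by rw [← h3, inv_mul_cancel_left]
  have h1 : MonoidHom.transfer (MonoidHom.id (Q : Subgroup G)) a = 1 :=
    Abelianization.commutator_subset_ker _ (hs.commutator_eq_top ▸ mem_top a)
  rw [MonoidHom.transfer_eq_pow _ a key] at h1
  have h2 : a ^ (Q : Subgroup G).index = 1 := congrArg Subtype.val h1
  have h3 := orderOf_dvd_of_pow_eq_one h2
  rw [hao] at h3
  exact Q.not_dvd_index h3

theorem subgroupOf_normalizer_hall (hs : Setup p G) (hK : MaxP p K) (hne : K ≠ ⊥) :
    (Nat.card (K.subgroupOf (normalizer (K : Set G)))).Coprime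
      (K.subgroupOf (normalizer (K : Set G))).index := by
  rw [Nat.card_congr (subgroupOfEquivOfLe le_normalizer).toEquiv]
  by_contra h
  obtain ⟨q, hq, hd1, hd2⟩ := Nat.Prime.not_coprime_iff_dvd.mp h
  refine hK.hall_index hs (hs.normalizer_ne_top_of_cop hK.cop hne) le_normalizer q hq ?_ hd2
  rintro rfl
  exact hq.ne_one (Nat.eq_one_of_dvd_coprimes hK.cop hd1 dvd_rfl)

/-- `p` divides `|N(K) : K|`. -/
theorem p_dvd_relIndex (hs : Setup p G) (hK : MaxP p K) (hne : K ≠ ⊥) :
    p ∣ K.relIndex (normalizer (K : Set G)) := by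
  have hN := hs.normalizer_ne_top_of_cop hK.cop hne
  by_contra hd
  have h1 : K.relIndex (normalizer (K : Set G)) = 1 := by
    by_contra h
    obtain ⟨q, hq, hqd⟩ := Nat.exists_prime_and_dvd h
    exact hK.hall_index hs hN le_normalizer q hq (fun e => hd (e ▸ hqd)) hqd
  refine hne ((Subgroup.eq_bot_iff_forall _).mpr fun c hc => hK.eq_one_of_central hs hc fun n hn => ?_)
  exact comm_of_mem hs hK.cop (relIndex_eq_one.mp h1 hn) hc

/-- `K = [K, N(K)]`. -/
theorem le_commutator_normalizer (hs : Setup p G) (hK : MaxP p K) (hne : K ≠ ⊥) :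
    K ≤ ⁅K, normalizer (K : Set G)⁆ := by
  set X := normalizer (K : Set G)
  haveI : (K.subgroupOf X).Normal := normal_in_normalizer
  haveI hc : IsMulCommutative (K.subgroupOf X) := ⟨⟨fun a b => Subtype.ext (Subtype.ext
    (comm_of_mem hs hK.cop (mem_subgroupOf.mp a.2) (mem_subgroupOf.mp b.2)))⟩⟩
  have h := CfsgLib.Transfer.le_commutator_sup_center (K.subgroupOf X) hc
    (hK.subgroupOf_normalizer_hall hs hne)
  have hz : center X ⊓ K.subgroupOf X = ⊥ := by
    refine (Subgroup.eq_bot_iff_forall _).mpr fun c hc => ?_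
    obtain ⟨hcz, hcK⟩ := mem_inf.mp hc
    exact Subtype.ext (hK.eq_one_of_central hs (mem_subgroupOf.mp hcK) fun n hn =>
      congrArg Subtype.val (mem_center_iff.mp hcz ⟨n, hn⟩))
  rw [hz, sup_bot_eq] at h
  have h' := map_mono (f := X.subtype) h
  rwa [map_commutator, map_subgroupOf_eq_of_le le_normalizer, ← MonoidHom.range_eq_map,
    range_subtype] at h'

end MaxP

/-- Structure of a solvable group with an abelian Hall `p'`-subgroup. -/
theorem le_pCore_of_normalized {X : Type*} [Group X] [Finite X] [Group.IsSolvable X]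
    {H : Subgroup X} [IsMulCommutative H] (hHc : (Nat.card H).Coprime p)
    (hHi : ∀ q : ℕ, q.Prime → q ≠ p → ¬ q ∣ H.index) :
    (∀ V : Subgroup X, IsPGroup p V → H ≤ normalizer (V : Set X) → V ≤ pCore p X) ∧
    (pCore p X ≤ centralizer (H : Set X) → H.Normal) := by
  set U := pCore p X with hUdef
  haveI : U.Normal := pCore_normal p X
  set π := QuotientGroup.mk' U with hπdef
  have hπ : Function.Surjective π := QuotientGroup.mk'_surjective U
  set Hb := H.map π with hHb
  set F := pPrimeCore p (X ⧸ U) with hFdef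
  haveI : F.Normal := pPrimeCore_normal p (X ⧸ U)
  have hsol : IsPSolvable p (X ⧸ U) := CfsgLib.PLocal.isPSolvable_of_isSolvable
  have hO : pCore p (X ⧸ U) = ⊥ := CfsgLib.Base.pCore_quotient_pCore p X
  have hC := CfsgLib.FgsC.HallHigmanB.centralizer_pPrimeCore_le hsol hO
  have hHbc : (Nat.card Hb).Coprime p := hHc.coprime_dvd_left (Subgroup.card_map_dvd H π)
  have hFc : (Nat.card F).Coprime p := CfsgLib.Base.pPrimeCore_coprime p _
  have hFH : F ≤ Hb := by
    have hn : Hb ≤ normalizer (F : Set (X ⧸ U)) := by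
      rw [normalizer_eq_top_iff.mpr inferInstance]; exact le_top
    have hcsup : (Nat.card ↥(Hb ⊔ F)).Coprime p :=
      (Nat.Coprime.mul_left hHbc hFc).coprime_dvd_left (CfsgLib.Coprime.card_sup_dvd hn)
    have h1 : Hb.relIndex (Hb ⊔ F) = 1 := by
      by_contra h
      obtain ⟨q, hq, hqd⟩ := Nat.exists_prime_and_dvd h
      refine hHi q hq ?_ ((hqd.trans (relIndex_dvd_index_of_le le_sup_left)).trans
        (index_map_dvd H hπ))
      rintro rfl
      exact hq.ne_one (Nat.eq_one_of_dvd_coprimes hcsup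
        (hqd.trans (relIndex_dvd_card _ _)) dvd_rfl)
    exact le_sup_right.trans (relIndex_eq_one.mp h1)
  have hHbF : Hb = F := by
    refine le_antisymm (le_trans ?_ hC) hFH
    rintro _ ⟨x, hx, rfl⟩
    refine mem_centralizer_iff.mpr fun f hf => ?_
    obtain ⟨y, hy, rfl⟩ := hFH hf
    have hxy : y * x = x * y :=
      congrArg Subtype.val (‹IsMulCommutative H›.is_comm.comm ⟨y, hy⟩ ⟨x, hx⟩)
    rw [← map_mul, ← map_mul, hxy]
  refine ⟨fun V hV hHV => ?_, fun hUH => ?_⟩
  · have hVc : ∀ n, (Nat.card F).Coprime (p ^ n) := fun n => hFc.pow_right n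
    obtain ⟨n, hn⟩ := (hV.map π).exists_card_eq
    have h1 : V.map π ≤ centralizer (F : Set (X ⧸ U)) := by
      rw [← commutator_eq_bot_iff_le_centralizer, ← le_bot_iff,
        ← CfsgLib.Coprime.inf_eq_bot_of_coprime (H := F) (K := V.map π) (hn ▸ hVc n), le_inf_iff]
      refine ⟨commutator_le_right _ _, ?_⟩
      rw [commutator_le]
      rintro _ ⟨v, hv, rfl⟩ f hf
      obtain ⟨h, hh, rfl⟩ := hFH hf
      rw [← map_commutatorElement]
      refine mem_map_of_mem π ?_
      rw [commutatorElement_def, show v * h * v⁻¹ * h⁻¹ = v * (h * v⁻¹ * h⁻¹) by group]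
      exact mul_mem hv ((mem_set_normalizer_iff.mp (hHV hh) _).mp (inv_mem hv))
    have h2 : V.map π = ⊥ := by
      rw [← le_bot_iff, ← CfsgLib.Coprime.inf_eq_bot_of_coprime (H := F) (K := V.map π) (hn ▸ hVc n)]
      exact le_inf (h1.trans hC) le_rfl
    rwa [Subgroup.map_eq_bot_iff, hπdef, QuotientGroup.ker_mk'] at h2
  · haveI hn : (H ⊔ U).Normal := by
      have : Hb.comap π = H ⊔ U := by rw [hHb, comap_map_eq, hπdef, QuotientGroup.ker_mk']
      rw [← this, hHbF]
      infer_instance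
    refine ⟨fun h hh x => ?_⟩
    obtain ⟨h', hh', u, hu, e⟩ := mem_sup_of_normal_right.mp
      (hn.conj_mem h (mem_sup_left hh) x)
    have hcm : Commute h' u := (mem_centralizer_iff.mp (hUH hu) h' hh')
    have e1 : (x * h * x⁻¹) ^ Nat.card H = 1 := by
      rw [conj_pow, show h ^ Nat.card H = 1 from congrArg Subtype.val
        (pow_card_eq_one' (x := (⟨h, hh⟩ : H))), mul_one, mul_inv_cancel]
    rw [← e, hcm.mul_pow, show h' ^ Nat.card H = 1 from congrArg Subtype.val
      (pow_card_eq_one' (x := (⟨h', hh'⟩ : H))), one_mul] at e1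
    have hu1 : u = 1 := by
      obtain ⟨n, hn⟩ := CfsgLib.Base.isPGroup_pCore p X ⟨u, hu⟩
      have e2 : u ^ p ^ n = 1 := congrArg Subtype.val hn
      have h3 := pow_gcd_eq_one.mpr ⟨e1, e2⟩
      rwa [(hHc.pow_right n).gcd_eq_one, pow_one] at h3
    rw [← e, hu1, mul_one]
    exact hh'

end CfsgLib.FgsC.APP
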