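import Cfsg.Agent.Lib.FgsC.AbelianPPrime.Local
import Cfsg.Agent.Lib.Transfer.Alperin
import Cfsg.Agent.Lib.FgsB.Basic

/-!
# The class equation of a simple group with abelian `p'`-subgroups

Counting the elements by their `p`-parts shows that such a group does not exist when every prime
divisor other than `p` divides `p - 1`.
-/

set_option autoImplicit false
set_option linter.unusedSectionVars false
set_option linter.style.haveILetI false

open Subgroup Cfsg
open scoped Pointwise commutatorElement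

universe u

namespace CfsgLib.FgsC.APP

variable {G : Type u} [Group G] [Finite G] {p : ℕ} [hp : Fact p.Prime]

/-- The number of `p'`-elements commuting with `y`. -/
noncomputable def regCount (p : ℕ) (y : G) : ℕ :=
  Nat.card {z : G // z * y = y * z ∧ (orderOf z).Coprime p}

theorem regCount_conj (g y : G) : regCount p (g * y * g⁻¹) = regCount p y := by
  refine (Nat.card_congr ((MulAut.conj g).toEquiv.subtypeEquiv fun z => ?_)).symm
  show z * y = y * z ∧ (orderOf z).Coprime p ↔
    (g * z * g⁻¹) * (g * y * g⁻¹) = (g * y * g⁻¹) * (g * z * g⁻¹) ∧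
      (orderOf (g * z * g⁻¹)).Coprime p
  have e : orderOf (g * z * g⁻¹) = orderOf z :=
    orderOf_injective (MulAut.conj g).toMonoidHom (MulAut.conj g).injective z
  rw [e]
  refine and_congr_left fun _ => ?_
  rw [show g * z * g⁻¹ * (g * y * g⁻¹) = g * (z * y) * g⁻¹ by group,
    show g * y * g⁻¹ * (g * z * g⁻¹) = g * (y * z) * g⁻¹ by group,
    mul_left_inj, mul_right_inj]

open scoped _root_.Classical in
/-- The elements conjugate into a set. -/
noncomputable def conjSet [Fintype G] (Y : Finset G) : Finset G :=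
  Finset.univ.filter fun x => ConjClasses.mk x ∈ Y.image ConjClasses.mk

open scoped _root_.Classical in
/-- Summing a class function over the elements conjugate into an `S`-invariant set. -/
theorem card_mul_sum_le [Fintype G] (S : Subgroup G) (Y : Finset G) (f : G → ℕ)
    (hf : ∀ g y : G, f (g * y * g⁻¹) = f y) (hY : ∀ s ∈ S, ∀ y ∈ Y, s * y * s⁻¹ ∈ Y)
    (h : ∀ y ∈ Y, f y * Nat.card ↥(S ⊓ centralizer ({y} : Set G)) ≤
      Nat.card (centralizer ({y} : Set G))) :
    Nat.card S * ∑ x ∈ conjSet Y, f x ≤ Nat.card G * Y.card := by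
  have hmaps : ∀ x ∈ conjSet Y, ConjClasses.mk x ∈ Y.image ConjClasses.mk := fun x hx =>
    (Finset.mem_filter.mp hx).2
  rw [← Finset.sum_fiberwise_of_maps_to hmaps, Finset.card_eq_sum_card_image ConjClasses.mk Y,
    Finset.mul_sum, Finset.mul_sum]
  refine Finset.sum_le_sum fun c hc => ?_
  obtain ⟨y, hy, rfl⟩ := Finset.mem_image.mp hc
  set cls := (conjSet Y).filter fun x => ConjClasses.mk x = ConjClasses.mk y with hcls
  have hfc : ∀ x ∈ cls, f x = f y := fun x hx => by
    obtain ⟨g, hg⟩ := isConj_iff.mp (ConjClasses.mk_eq_mk_iff_isConj.mp (Finset.mem_filter.mp hx).2)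
    rw [← hf g x, hg]
  rw [Finset.sum_congr rfl hfc, Finset.sum_const, smul_eq_mul]
  set n := (Y.filter fun x => ConjClasses.mk x = ConjClasses.mk y).card with hn
  set Cy := centralizer ({y} : Set G) with hCy
  have hclscard : cls.card * Nat.card Cy = Nat.card G := by
    have hset : ↑cls = (ConjClasses.mk y).carrier := by
      ext x
      simp only [hcls, conjSet, Finset.coe_filter, Finset.mem_filter, Finset.mem_univ, true_and,
        Set.mem_ofPred_eq, ConjClasses.mem_carrier_iff_mk_eq]
      exact ⟨fun h => h.2, fun h => ⟨h ▸ Finset.mem_image_of_mem _ hy, h⟩⟩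
    rw [← Set.ncard_coe_finset, hset, CfsgLib.FgsB.ncard_carrier_eq_index, mul_comm, card_mul_index]
  have horb : Nat.card S ≤ Nat.card ↥(S ⊓ Cy) * n := by
    rw [Nat.card_eq_fintype_card (α := S), Nat.card_eq_fintype_card (α := ↥(S ⊓ Cy)),
      Fintype.card_subtype, Fintype.card_subtype]
    refine le_trans (Finset.card_le_mul_card_image (f := fun s => s * y * s⁻¹) _ _ fun b hb => ?_)
      (Nat.mul_le_mul_left _ (Finset.card_le_card fun b hb => ?_))
    · obtain ⟨s₀, hs₀, rfl⟩ := Finset.mem_image.mp hb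
      refine Finset.card_le_card_of_injOn (fun s => s₀⁻¹ * s) (fun s hs => ?_)
        (fun a _ b _ hab => mul_left_cancel hab)
      simp only [Finset.coe_filter, Finset.mem_filter, Finset.mem_univ, true_and,
        Set.mem_ofPred_eq] at hs hs₀ ⊢
      refine mem_inf.mpr ⟨mul_mem (inv_mem hs₀) hs.1, mem_centralizer_singleton_iff.mpr ?_⟩
      calc s₀⁻¹ * s * y = s₀⁻¹ * (s * y * s⁻¹) * s := by group
        _ = s₀⁻¹ * (s₀ * y * s₀⁻¹) * s := by rw [hs.2]
        _ = _ := by group
    · obtain ⟨s, hs, rfl⟩ := Finset.mem_image.mp hb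
      refine Finset.mem_filter.mpr ⟨hY s (Finset.mem_filter.mp hs).2 y hy, ?_⟩
      rw [ConjClasses.mk_eq_mk_iff_isConj]
      exact (isConj_iff.mpr ⟨s, rfl⟩).symm
  calc Nat.card S * (cls.card * f y) ≤ Nat.card ↥(S ⊓ Cy) * n * (cls.card * f y) :=
        Nat.mul_le_mul_right _ horb
    _ = n * cls.card * (f y * Nat.card ↥(S ⊓ Cy)) := by ring
    _ ≤ n * cls.card * Nat.card Cy := Nat.mul_le_mul_left _ (h y hy)
    _ = Nat.card G * n := by rw [mul_assoc, hclscard, mul_comm]

open scoped _root_.Classical in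
/-- Every element is a product of a `p`-element and a `p'`-element commuting with it. -/
theorem card_le_sum_regCount [Fintype G] :
    Nat.card G ≤ ∑ y ∈ Finset.univ.filter (fun y : G => ∃ k, orderOf y ∣ p ^ k), regCount p y := by
  choose a ha b hb e hak hbc using fun g : G => CfsgLib.Transfer.exists_pPart_mul (p := p) g
  have key : ∀ g, b g * a g = a g * b g := fun g => by
    obtain ⟨i, hi⟩ := mem_zpowers_iff.mp (ha g)
    obtain ⟨j, hj⟩ := mem_zpowers_iff.mp (hb g)
    rw [← hi, ← hj]
    exact zpow_mul_comm g j i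
  calc Nat.card G = (Finset.univ : Finset G).card := by
        rw [Nat.card_eq_fintype_card, Finset.card_univ]
    _ ≤ ((Finset.univ.filter fun y : G => ∃ k, orderOf y ∣ p ^ k).sigma fun y =>
        Finset.univ.filter fun z : G => z * y = y * z ∧ (orderOf z).Coprime p).card := by
        refine Finset.card_le_card_of_injOn (fun g => ⟨a g, b g⟩) (fun g _ => ?_)
          (fun g _ g' _ h => ?_)
        · simp only [Finset.coe_sigma, Set.mem_sigma_iff, Finset.coe_filter, Finset.mem_univ,
            true_and, Set.mem_ofPred_eq]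
          exact ⟨hak g, key g, hbc g⟩
        · simp only [Sigma.mk.injEq, heq_eq_eq] at h
          rw [← e g, ← e g', h.1, h.2]
    _ = _ := by
        rw [Finset.card_sigma]
        exact Finset.sum_congr rfl fun y _ => by
          rw [regCount, Nat.card_eq_fintype_card, Fintype.card_subtype]

theorem two_mul_succ_le {n : ℕ} (hn : 4 ≤ n) : 2 * (n.primeFactors.card + 1) ≤ n + 1 := by
  set s := n.primeFactors.card with hs
  rcases Nat.lt_or_ge s 2 with h | h
  · omega
  have h2 : ∀ q ∈ n.primeFactors, 2 ≤ q := fun q hq => (Nat.prime_of_mem_primeFactors hq).two_le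
  have h1 : 2 ^ s ≤ n := (Finset.pow_card_le_prod n.primeFactors id 2 h2).trans
    (Nat.le_of_dvd (by omega) (Nat.prod_primeFactors_dvd n))
  rcases Nat.lt_or_ge s 3 with h' | h'
  · have hs2 : s = 2 := by omega
    rw [hs2] at h1 ⊢
    rcases Nat.lt_or_ge n 5 with hn5 | hn5
    · have hn4 : n = 4 := by omega
      rw [hn4] at hs
      have h4 : (4 : ℕ).primeFactors = {2} := by
        rw [show (4 : ℕ) = 2 ^ 2 by norm_num, Nat.primeFactors_prime_pow (by norm_num) Nat.prime_two]
      rw [h4, Finset.card_singleton] at hs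
      omega
    · omega
  · have : ∀ k : ℕ, 3 ≤ k → 2 * k + 1 ≤ 2 ^ k := by
      intro k hk
      induction k, hk using Nat.le_induction with
      | base => norm_num
      | succ k hk ih => rw [pow_succ]; omega
    have := this s h'
    omega

open scoped _root_.Classical in
/-- There is no such simple group. -/
theorem Setup.false_of_divides (hs : Setup p G) (hp5 : 5 ≤ p)
    (hq1 : ∀ q : ℕ, q.Prime → q ∣ Nat.card G → q ≠ p → q ∣ p - 1) : False := by
  haveI : Fintype G := Fintype.ofFinite G
  obtain ⟨P⟩ : Nonempty (Sylow p G) := inferInstance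
  obtain ⟨A, hL⟩ := hs.exists_LData hp5 P
  obtain ⟨K, hAK, hK⟩ := exists_maxP (p := p) hL.cop
  obtain ⟨⟨a₀, ha₀⟩, ha₀'⟩ := ne_bot_iff_exists_ne_one.mp hL.ne_bot
  have ha₀1 : a₀ ≠ 1 := fun h => ha₀' (Subtype.ext h)
  have hKne : K ≠ ⊥ := fun h => ha₀1 (mem_bot.mp (h ▸ hAK ha₀))
  have hCK : ∀ a ∈ K, a ≠ 1 → centralizer ({a} : Set G) ≤ normalizer (K : Set G) :=
    fun a ha ha1 => hK.centralizer_le_normalizer' hs hp5 hq1 ha ha1
  set T := (P : Subgroup G) ⊓ centralizer (A : Set G) with hTdef
  have hAN : A ≤ normalizer ((P : Subgroup G) : Set G) := hL.le.trans hL.norm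
  have hPK : (P : Subgroup G) ⊓ K = ⊥ := by
    obtain ⟨k, hk⟩ := P.2.exists_card_eq
    exact CfsgLib.Coprime.inf_eq_bot_of_coprime (hk ▸ (hK.cop.symm.pow_left k))
  -- all centralisers of elements of `A` meet `P` in `T`
  have hTeq : ∀ a ∈ A, a ≠ 1 → (P : Subgroup G) ⊓ centralizer ({a} : Set G) ≤ T := by
    rintro a ha ha1 x ⟨hxP, hxa⟩
    refine ⟨hxP, mem_centralizer_iff.mpr fun b hb => ?_⟩
    have hxN : x ∈ normalizer (K : Set G) := hCK a (hAK ha) ha1 hxa
    have h1 : ⁅x, b⁆ ∈ K := by
      rw [commutatorElement_def]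
      exact mul_mem ((mem_set_normalizer_iff.mp hxN b).mp (hAK hb)) (inv_mem (hAK hb))
    have h2 : ⁅x, b⁆ ∈ (P : Subgroup G) := by
      rw [commutatorElement_def, show x * b * x⁻¹ * b⁻¹ = x * (b * x⁻¹ * b⁻¹) by group]
      exact mul_mem hxP ((mem_set_normalizer_iff.mp (hAN hb) _).mp (inv_mem hxP))
    exact (commutatorElement_eq_one_iff_mul_comm.mp (mem_bot.mp (hPK ▸ mem_inf.mpr ⟨h2, h1⟩))).symm
  have hTN : T ≤ normalizer (K : Set G) := fun x hx => hCK a₀ (hAK ha₀) ha₀1
    (mem_centralizer_singleton_iff.mpr (mem_centralizer_iff.mp hx.2 a₀ ha₀).symm)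
  -- a larger `p`-subgroup of `N(K)` normalising `T`
  set N := normalizer (K : Set G) with hN
  have hTp : IsPGroup p T := P.2.to_le inf_le_left
  obtain ⟨P₀, hP₀⟩ := (hTp.comap_subtype (K := N)).exists_le_sylow
  set P₁ := (P₀ : Subgroup N).map N.subtype with hP₁
  have hTP₁ : T ≤ P₁ := by
    rw [← map_subgroupOf_eq_of_le hTN]
    exact map_mono hP₀
  have hTlt : T < P₁ := by
    refine lt_of_le_of_ne hTP₁ fun h => ha₀1 (hK.eq_one_of_central hs (hAK ha₀) ?_)
    set C := centralizer ({a₀} : Set G) with hC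
    have hPC : (P₀ : Subgroup N) ≤ C.subgroupOf N := fun x hx => by
      refine mem_subgroupOf.mpr (mem_centralizer_singleton_iff.mpr ?_)
      exact (mem_centralizer_iff.mp (h.ge (mem_map_of_mem _ hx)).2 a₀ ha₀).symm
    have hKC : K.subgroupOf N ≤ C.subgroupOf N :=
      comap_mono (le_centralizer_of_mem hs hK.cop (hAK ha₀))
    have hone : (C.subgroupOf N).index = 1 := by
      by_contra hi
      obtain ⟨q, hq, hqd⟩ := Nat.exists_prime_and_dvd hi
      by_cases hqp : q = p
      · exact P₀.not_dvd_index ((dvd_of_eq hqp.symm).trans (hqd.trans (index_dvd_of_le hPC)))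
      · exact hK.hall_index hs (hs.normalizer_ne_top_of_cop hK.cop hKne) le_normalizer q hq hqp
          (hqd.trans (index_dvd_of_le hKC))
    intro n hn
    have hm : (⟨n, hn⟩ : N) ∈ C.subgroupOf N := index_eq_one.mp hone ▸ mem_top _
    exact mem_centralizer_singleton_iff.mp (mem_subgroupOf.mp hm)
  have hP₁p : IsPGroup p P₁ := P₀.2.map _
  set T₁ := P₁ ⊓ normalizer (T : Set G) with hT₁
  have hT₁card : p * Nat.card T ≤ Nat.card T₁ := by
    have hlt := CfsgLib.Fusion.lt_inf_normalizer hP₁p hTlt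
    have h := CfsgLib.Transfer.card_lt_card_of_lt hlt
    obtain ⟨i, hi⟩ := hTp.exists_card_eq
    obtain ⟨j, hj⟩ := (hP₁p.to_le (inf_le_left : T₁ ≤ P₁)).exists_card_eq
    rw [hi, hj] at h ⊢
    have hij : i < j := (Nat.pow_lt_pow_iff_right hp.out.one_lt).mp h
    calc p * p ^ i = p ^ (i + 1) := by ring
      _ ≤ p ^ j := Nat.pow_le_pow_right hp.out.pos hij
  set YT : Finset G := Finset.univ.filter fun y => y ∈ T ∧ y ≠ 1 with hYT
  set YP : Finset G := Finset.univ.filter fun y =>
    y ∈ (P : Subgroup G) ∧ y ≠ 1 ∧ y ∉ conjSet YT with hYP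
  -- the weight of an element of `T`
  have hwT : ∀ y ∈ YT, regCount p y * Nat.card ↥(T₁ ⊓ centralizer ({y} : Set G)) ≤
      Nat.card (centralizer ({y} : Set G)) := by
    intro y hy
    obtain ⟨hyT, hy1⟩ := (Finset.mem_filter.mp hy).2
    set X := centralizer ({y} : Set G) with hX
    set B := K ⊓ X with hB
    set M₀ := T₁ ⊓ X with hM₀
    have hXtop : X ≠ ⊤ := hs.centralizer_ne_top hy1
    have ha₀B : a₀ ∈ B := ⟨hAK ha₀, mem_centralizer_singleton_iff.mpr
      (mem_centralizer_iff.mp hyT.2 a₀ ha₀)⟩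
    have hBmax : ∀ H : Subgroup G, H ≤ X → (Nat.card H).Coprime p → B ≤ H → H = B := by
      intro H hHX hHc hBH
      refine le_antisymm (le_inf (hK.normal_le hs hKne ?_ hHc) hHX) hBH
      exact (le_centralizer_of_mem hs hHc (hBH ha₀B)).trans (hCK a₀ (hAK ha₀) ha₀1)
    have hconj := (hall_of_max hs hXtop inf_le_right
      (hK.cop.coprime_dvd_left (card_dvd_of_le inf_le_left)) hBmax).2
    have hM₀N : M₀ ≤ normalizer (B : Set G) := by
      refine CfsgLib.Coprime.le_normalizer_inf_inf ?_ (inf_le_right.trans le_normalizer)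
      exact (inf_le_left.trans inf_le_left).trans (map_subtype_le _)
    have hBM₀ : M₀ ⊓ B = ⊥ := by
      obtain ⟨j, hj⟩ := (hP₁p.to_le ((inf_le_left.trans inf_le_left) : M₀ ≤ P₁)).exists_card_eq
      exact CfsgLib.Coprime.inf_eq_bot_of_coprime (hj ▸
        (hK.cop.coprime_dvd_left (card_dvd_of_le inf_le_left)).symm.pow_left j)
    have hS₀ := CfsgLib.Coprime.card_sup_of_inf_eq_bot hM₀N hBM₀
    set S₀ := M₀ ⊔ B with hS₀def
    set Z : Finset G := Finset.univ.filter fun z => z * y = y * z ∧ (orderOf z).Coprime p with hZ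
    have hreg : regCount p y = Z.card := by
      rw [regCount, Nat.card_eq_fintype_card, Fintype.card_subtype]
    -- count the pairs `(x, b)` by the value of `x b x⁻¹`
    have hfib : Z.card * Nat.card S₀ ≤ Nat.card X * Nat.card B := by
      rw [Nat.card_eq_fintype_card (α := S₀), Nat.card_eq_fintype_card (α := X),
        Nat.card_eq_fintype_card (α := B), Fintype.card_subtype, Fintype.card_subtype,
        Fintype.card_subtype, ← Finset.card_product, ← Finset.card_product]
      choose! g hg hgz using fun (z : G) (hz : z * y = y * z ∧ (orderOf z).Coprime p) =>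
        hconj (zpowers z) (zpowers_le.mpr (mem_centralizer_singleton_iff.mpr hz.1))
          (by rw [Nat.card_zpowers]; exact hz.2)
      refine Finset.card_le_card_of_injOn
        (fun zm => ((g zm.1)⁻¹ * zm.2, zm.2⁻¹ * (g zm.1 * zm.1 * (g zm.1)⁻¹) * zm.2)) ?_ ?_
      · rintro ⟨z, m⟩ hzm
        simp only [hZ, Finset.coe_product, Set.mem_prod, Finset.coe_filter, Finset.mem_univ,
          true_and, Set.mem_ofPred_eq] at hzm ⊢
        obtain ⟨hz, hm⟩ := hzm
        have hS₀X : S₀ ≤ X := sup_le inf_le_right inf_le_right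
        have hS₀N : S₀ ≤ normalizer (B : Set G) := sup_le hM₀N le_normalizer
        have hb : g z * z * (g z)⁻¹ ∈ B := ⟨by
          have := hgz z hz z (mem_zpowers z)
          exact this.1, by
          have := hgz z hz z (mem_zpowers z)
          exact this.2⟩
        refine ⟨mul_mem (inv_mem (hg z hz)) (hS₀X hm), ?_⟩
        have := (mem_set_normalizer_iff.mp (inv_mem (hS₀N hm)) _).mp hb
        simpa using this
      · rintro ⟨z, m⟩ _ ⟨z', m'⟩ _ h
        simp only [Prod.mk.injEq] at h
        obtain ⟨h1, h2⟩ := h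
        have hz : z = z' := by
          have e1 : z = ((g z)⁻¹ * m) * (m⁻¹ * (g z * z * (g z)⁻¹) * m) * ((g z)⁻¹ * m)⁻¹ := by
            group
          rw [e1, h1, h2]
          group
        subst hz
        exact Prod.ext rfl (mul_left_cancel h1)
    rw [hS₀, ← mul_assoc] at hfib
    rw [hreg]
    exact Nat.le_of_mul_le_mul_right hfib Nat.card_pos
  -- the weight of the other elements of `P`
  have hCL : ∀ y ∈ YP, LP P ⊓ centralizer ({y} : Set G) ≤ (P : Subgroup G) := by
    intro y hy l hl
    obtain ⟨hlL, hly⟩ := mem_inf.mp hl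
    obtain ⟨hyP, hy1, hyT⟩ := (Finset.mem_filter.mp hy).2
    obtain ⟨u, hu, z, hz, e, hup, hzc⟩ := CfsgLib.Transfer.exists_pPart_mul (p := p) l
    have hzy : z * y = y * z := mem_centralizer_singleton_iff.mp (zpowers_le.mpr hly hz)
    have hz1 : z = 1 := by
      by_contra hz1
      obtain ⟨m, hm, hmA⟩ := hL.conj z (zpowers_le.mpr hlL hz) hzc
      have hyT' : m * y * m⁻¹ ∈ T := by
        refine hTeq _ hmA (fun h => hz1 ?_)
          ⟨(mem_set_normalizer_iff.mp (hL.norm hm) y).mp hyP, ?_⟩
        · rwa [conj_eq_one_iff] at h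
        · refine mem_centralizer_singleton_iff.mpr ?_
          calc m * y * m⁻¹ * (m * z * m⁻¹) = m * (y * z) * m⁻¹ := by group
            _ = m * (z * y) * m⁻¹ := by rw [hzy]
            _ = _ := by group
      refine hyT (Finset.mem_filter.mpr ⟨Finset.mem_univ _, Finset.mem_image.mpr
        ⟨m * y * m⁻¹, Finset.mem_filter.mpr ⟨Finset.mem_univ _, hyT', fun h => hy1 ?_⟩, ?_⟩⟩)
      · rwa [conj_eq_one_iff] at h
      · rw [ConjClasses.mk_eq_mk_iff_isConj]
        exact (isConj_iff.mpr ⟨m, rfl⟩).symm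
    rw [hz1, mul_one] at e
    rw [← e]
    -- a `p`-element of `L` lies in `P`
    have hnP : ((P : Subgroup G).subgroupOf (LP P)).Normal :=
      (normal_subgroupOf_iff_le_normalizer (Setup.le_LP P)).mpr hL.norm
    obtain ⟨k, hk⟩ := hup
    have hup' : IsPGroup p (zpowers u) := by
      obtain ⟨i, -, hi⟩ := (Nat.dvd_prime_pow hp.out).mp hk
      exact IsPGroup.of_card (n := i) (by rw [Nat.card_zpowers, hi])
    have hle : zpowers u ≤ normalizer ((P : Subgroup G) : Set G) :=
      zpowers_le.mpr (hL.norm (zpowers_le.mpr hlL hu))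
    exact (P.3 (hup'.to_sup_of_normal_right' P.2 hle) le_sup_right) ▸
      mem_sup_left (mem_zpowers u)
  have hwP : ∀ y ∈ YP, regCount p y * Nat.card ↥(LP P ⊓ centralizer ({y} : Set G)) ≤
      Nat.card (centralizer ({y} : Set G)) := by
    intro y hy
    obtain ⟨hyP, hy1, hyT⟩ := (Finset.mem_filter.mp hy).2
    set X := centralizer ({y} : Set G) with hX
    -- `C(y)` has a normal `p`-complement
    have hcompl : HasNormalPComplement p X := by
      obtain ⟨PX⟩ : Nonempty (Sylow p X) := inferInstance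
      rw [CfsgLib.Transfer.hasNormalPComplement_iff_forall_centralizing PX]
      intro Q hQ x hx hxc
      have hyn : zpowers y ≤ normalizer ((Q.map X.subtype : Subgroup G) : Set G) := by
        refine le_trans (zpowers_le.mpr ?_) (centralizer_le_normalizer _)
        refine mem_centralizer_iff.mpr ?_
        rintro _ ⟨v, -, rfl⟩
        exact mem_centralizer_singleton_iff.mp v.2
      have hQy : IsPGroup p ↥(zpowers y ⊔ Q.map X.subtype) :=
        (P.2.to_le (zpowers_le.mpr hyP)).to_sup_of_normal_right' ((PX.2.to_le hQ).map _) hyn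
      obtain ⟨R, hR⟩ := hQy.exists_le_sylow
      obtain ⟨g, hg⟩ := MulAction.exists_smul_eq G R P
      have hmove : ∀ v ∈ zpowers y ⊔ Q.map X.subtype, g * v * g⁻¹ ∈ (P : Subgroup G) := by
        intro v hv
        rw [← hg, Sylow.coe_subgroup_smul, mem_pointwise_smul_iff_inv_smul_mem]
        simpa [MulAut.smul_def, mul_assoc] using hR hv
      set y' := g * y * g⁻¹ with hy'
      have hy'YP : y' ∈ YP := by
        refine Finset.mem_filter.mpr ⟨Finset.mem_univ _,
          hmove y (mem_sup_left (mem_zpowers y)), fun h => hy1 ?_, fun h => hyT ?_⟩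
        · rwa [hy', conj_eq_one_iff] at h
        · simp only [conjSet, Finset.mem_filter, Finset.mem_univ, true_and] at h ⊢
          rwa [show ConjClasses.mk y = ConjClasses.mk y' from
            ConjClasses.mk_eq_mk_iff_isConj.mpr (isConj_iff.mpr ⟨g, rfl⟩)]
      set x' := g * (x : G) * g⁻¹ with hx'
      have hxy : (x : G) * y = y * x := mem_centralizer_singleton_iff.mp x.2
      have hx'y : x' * y' * x'⁻¹ = y' := by
        calc x' * y' * x'⁻¹ = g * ((x : G) * y * (x : G)⁻¹) * g⁻¹ := by rw [hx', hy']; group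
          _ = y' := by rw [hxy, mul_inv_cancel_right]
      set S := (fun v => g * v * g⁻¹) '' ((zpowers y : Set G) ∪ (Q.map X.subtype : Set G)) with hS
      have hSP : S ⊆ (P : Subgroup G) := by
        rintro _ ⟨v, hv, rfl⟩
        exact hmove v (hv.elim (fun h => mem_sup_left h) fun h => mem_sup_right h)
      have hxS : ∀ v ∈ S, x' * v * x'⁻¹ ∈ S := by
        rintro _ ⟨v, hv, rfl⟩
        refine ⟨(x : G) * v * (x : G)⁻¹, ?_, by rw [hx']; group⟩
        rcases hv with h | ⟨v, hv', rfl⟩
        · left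
          obtain ⟨i, rfl⟩ := mem_zpowers_iff.mp h
          exact ⟨i, by rw [(Commute.zpow_right hxy i).eq, mul_inv_cancel_right]⟩
        · right
          exact ⟨x * v * x⁻¹, (mem_set_normalizer_iff.mp hx v).mp hv', rfl⟩
      obtain ⟨l, hl, hle⟩ := hs.exists_act hp5 P hSP (fun v hv => hSP (hxS v hv))
      have hy'S : y' ∈ S := ⟨y, Or.inl (mem_zpowers y), rfl⟩
      have hlP : l ∈ (P : Subgroup G) := by
        refine hCL y' hy'YP ⟨hl, mem_centralizer_singleton_iff.mpr ?_⟩
        have := hle y' hy'S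
        rw [hx'y] at this
        exact mul_inv_eq_iff_eq_mul.mp this
      obtain ⟨j, hj⟩ := P.2 ⟨l, hlP⟩
      have hlj : l ^ p ^ j = 1 := congrArg Subtype.val hj
      have hpow : ∀ i : ℕ, ∀ v ∈ S, l ^ i * v * (l ^ i)⁻¹ = x' ^ i * v * (x' ^ i)⁻¹ := by
        intro i
        induction i with
        | zero => simp
        | succ i ih =>
          intro v hv
          calc l ^ (i + 1) * v * (l ^ (i + 1))⁻¹ = l ^ i * (l * v * l⁻¹) * (l ^ i)⁻¹ := by
                rw [pow_succ]; group
            _ = x' ^ i * (x' * v * x'⁻¹) * (x' ^ i)⁻¹ := by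
                rw [hle v hv]; exact ih _ (hxS v hv)
            _ = _ := by rw [pow_succ]; group
      obtain ⟨i, hi⟩ := exists_pow_eq_self_of_coprime (x := x') (n := p ^ j) (by
        rw [hx', show orderOf (g * (x : G) * g⁻¹) = orderOf (x : G) from
          orderOf_injective (MulAut.conj g).toMonoidHom (MulAut.conj g).injective _,
          show orderOf (x : G) = orderOf x from orderOf_injective X.subtype X.subtype_injective x]
        exact hxc.symm.pow_left j)
      refine mem_centralizer_iff.mpr fun v hv => Subtype.ext ?_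
      have hvS : g * (v : G) * g⁻¹ ∈ S := ⟨_, Or.inr (mem_map_of_mem _ hv), rfl⟩
      have hcomm : Commute x' (g * (v : G) * g⁻¹) := by
        rw [← hi]
        refine Commute.pow_left ?_ i
        have := hpow (p ^ j) _ hvS
        rw [hlj, one_mul, inv_one, mul_one] at this
        show _ * _ = _ * _
        nth_rewrite 2 [this]
        group
      have h := hcomm.eq
      rw [hx', show g * (x : G) * g⁻¹ * (g * (v : G) * g⁻¹) = g * ((x : G) * v) * g⁻¹ by group,
        show g * (v : G) * g⁻¹ * (g * (x : G) * g⁻¹) = g * ((v : G) * x) * g⁻¹ by group] at h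
      exact (mul_left_cancel (mul_right_cancel h)).symm
    obtain ⟨PX, NX, hNn, hNc⟩ := hcompl
    set M₀ := LP P ⊓ X with hM₀
    have hM₀p : IsPGroup p M₀ := P.2.to_le (hCL y hy)
    obtain ⟨j, hj⟩ := hM₀p.exists_card_eq
    have hNcop : (Nat.card NX).Coprime p := by
      rw [← hNc.index_eq_card, Nat.coprime_comm, hp.out.coprime_iff_not_dvd]
      exact PX.not_dvd_index
    have hcount : regCount p y ≤ Nat.card NX := by
      refine Nat.card_le_card_of_injective (fun z => ⟨⟨z.1,
        mem_centralizer_singleton_iff.mpr z.2.1⟩, ?_⟩) fun a b h => Subtype.ext (by simpa using h)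
      haveI := hNn
      refine (QuotientGroup.eq_one_iff _).mp (orderOf_eq_one_iff.mp ?_)
      obtain ⟨i, hi⟩ := PX.2.exists_card_eq
      have h1 : orderOf (QuotientGroup.mk (⟨z.1, mem_centralizer_singleton_iff.mpr z.2.1⟩ : X) :
          X ⧸ NX) ∣ p ^ i := by
        rw [← hi, ← hNc.symm.index_eq_card, index_eq_card]
        exact orderOf_dvd_natCard _
      refine Nat.eq_one_of_dvd_coprimes ((z.2.2).pow_right i) ((orderOf_map_dvd
        (QuotientGroup.mk' NX) (⟨z.1, mem_centralizer_singleton_iff.mpr z.2.1⟩ : X)).trans ?_) h1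
      rw [← orderOf_injective X.subtype X.subtype_injective]
      rfl
    calc regCount p y * Nat.card M₀ ≤ Nat.card NX * Nat.card M₀ := Nat.mul_le_mul_right _ hcount
      _ ≤ Nat.card X := by
          refine Nat.le_of_dvd Nat.card_pos
            (Nat.Coprime.mul_dvd_of_dvd_of_dvd (hj ▸ hNcop.pow_right j)
              (card_subgroup_dvd_card NX) ?_)
          exact card_dvd_of_le inf_le_right
  -- the contributions
  have hT : p * ∑ x ∈ conjSet YT, regCount p x ≤ Nat.card G := by
    have h := card_mul_sum_le T₁ YT (regCount p) regCount_conj (fun s hs y hy => by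
      obtain ⟨hyT, hy1⟩ := (Finset.mem_filter.mp hy).2
      refine Finset.mem_filter.mpr ⟨Finset.mem_univ _,
        (mem_set_normalizer_iff.mp hs.2 y).mp hyT, fun h => hy1 ?_⟩
      rwa [conj_eq_one_iff] at h) hwT
    have hc : YT.card ≤ Nat.card T := by
      rw [Nat.card_eq_fintype_card, Fintype.card_subtype]
      exact Finset.card_le_card fun y hy =>
        Finset.mem_filter.mpr ⟨Finset.mem_univ _, (Finset.mem_filter.mp hy).2.1⟩
    have h2 : p * Nat.card T * ∑ x ∈ conjSet YT, regCount p x ≤ Nat.card G * Nat.card T :=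
      (Nat.mul_le_mul_right _ hT₁card).trans (h.trans (Nat.mul_le_mul_left _ hc))
    refine Nat.le_of_mul_le_mul_right (c := Nat.card T) ?_ Nat.card_pos
    rwa [mul_right_comm]
  have hP' : Nat.card (LP P) * ∑ x ∈ conjSet YP, regCount p x ≤
      Nat.card G * (Nat.card P - 1) := by
    have h := card_mul_sum_le (LP P) YP (regCount p) regCount_conj (fun s hs y hy => by
      obtain ⟨hyP, hy1, hyT⟩ := (Finset.mem_filter.mp hy).2
      refine Finset.mem_filter.mpr ⟨Finset.mem_univ _,
        (mem_set_normalizer_iff.mp (hL.norm hs) y).mp hyP, fun h => hy1 ?_, fun h => hyT ?_⟩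
      · rwa [conj_eq_one_iff] at h
      · simp only [conjSet, Finset.mem_filter, Finset.mem_univ, true_and] at h ⊢
        rwa [show ConjClasses.mk y = ConjClasses.mk (s * y * s⁻¹) from
          ConjClasses.mk_eq_mk_iff_isConj.mpr (isConj_iff.mpr ⟨s, rfl⟩)]) hwP
    refine h.trans (Nat.mul_le_mul_left _ ?_)
    rw [Nat.card_eq_fintype_card, Fintype.card_subtype,
      ← Finset.card_erase_of_mem (s := Finset.univ.filter fun x => x ∈ (P : Subgroup G)) (a := 1)
        (Finset.mem_filter.mpr ⟨Finset.mem_univ _, one_mem _⟩)]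
    exact Finset.card_le_card fun y hy => Finset.mem_erase.mpr ⟨(Finset.mem_filter.mp hy).2.2.1,
      Finset.mem_filter.mpr ⟨Finset.mem_univ _, (Finset.mem_filter.mp hy).2.1⟩⟩
  -- the `p'`-elements
  set σ := (Nat.card G).primeFactors.erase p with hσ
  have hKq : ∀ q ∈ σ, ∃ K : Subgroup G, MaxP p K ∧ q ∣ Nat.card K := by
    intro q hq
    obtain ⟨hqp, hq'⟩ := Finset.mem_erase.mp hq
    haveI : Fact q.Prime := ⟨Nat.prime_of_mem_primeFactors hq'⟩
    obtain ⟨a, ha⟩ := exists_prime_orderOf_dvd_card' q (Nat.dvd_of_mem_primeFactors hq')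
    obtain ⟨K, hle, hK⟩ := exists_maxP (p := p) (H := zpowers a) (by
      rw [Nat.card_zpowers, ha]
      exact (Nat.coprime_primes Fact.out hp.out).mpr hqp)
    refine ⟨K, hK, ?_⟩
    have h := card_dvd_of_le hle
    rwa [Nat.card_zpowers, ha] at h
  choose! Kq hKq1 hKq2 using hKq
  set YK : ℕ → Finset G := fun q => Finset.univ.filter fun y => y ∈ Kq q ∧ y ≠ 1 with hYK
  have hDq : ∀ q ∈ σ, p * (conjSet (YK q)).card ≤ Nat.card G := by
    intro q hq
    have hKne' : Kq q ≠ ⊥ := fun h => by
      have := hKq2 q hq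
      rw [h, card_bot] at this
      exact (Nat.prime_of_mem_primeFactors (Finset.mem_of_mem_erase hq)).ne_one (Nat.dvd_one.mp this)
    have h := card_mul_sum_le (normalizer (Kq q : Set G)) (YK q) (fun _ => 1) (fun _ _ => rfl)
      (fun s hs y hy => by
        obtain ⟨hyK, hy1⟩ := (Finset.mem_filter.mp hy).2
        refine Finset.mem_filter.mpr ⟨Finset.mem_univ _,
          (mem_set_normalizer_iff.mp hs y).mp hyK, fun h => hy1 ?_⟩
        rwa [conj_eq_one_iff] at h)
      fun y _ => by rw [one_mul]; exact Nat.le_of_dvd Nat.card_pos (card_dvd_of_le inf_le_right)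
    rw [Finset.sum_const, smul_eq_mul, mul_one] at h
    have hc : (YK q).card ≤ Nat.card (Kq q) := by
      rw [Nat.card_eq_fintype_card, Fintype.card_subtype]
      exact Finset.card_le_card fun y hy =>
        Finset.mem_filter.mpr ⟨Finset.mem_univ _, (Finset.mem_filter.mp hy).2.1⟩
    have hd : p * Nat.card (Kq q) ≤ Nat.card (normalizer (Kq q : Set G)) := by
      refine Nat.le_of_dvd Nat.card_pos ?_
      rw [← relIndex_bot_left (normalizer (Kq q : Set G)),
        ← relIndex_mul_relIndex ⊥ (Kq q) (normalizer (Kq q : Set G)) bot_le le_normalizer,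
        relIndex_bot_left, mul_comm p]
      exact Nat.mul_dvd_mul dvd_rfl ((hKq1 q hq).p_dvd_relIndex hs hKne')
    refine Nat.le_of_mul_le_mul_right (c := Nat.card (Kq q)) ?_ Nat.card_pos
    rw [mul_right_comm]
    exact (Nat.mul_le_mul_right _ hd).trans (h.trans (Nat.mul_le_mul_left _ hc))
  have hF1 : p * regCount p (1 : G) ≤ p + σ.card * Nat.card G := by
    have hsub : (Finset.univ.filter fun z : G => z * 1 = 1 * z ∧ (orderOf z).Coprime p) ⊆
        insert 1 (σ.biUnion fun q => conjSet (YK q)) := by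
      intro z hz
      obtain ⟨-, hzc⟩ := (Finset.mem_filter.mp hz).2
      by_cases hz1 : z = 1
      · rw [hz1]; exact Finset.mem_insert_self _ _
      refine Finset.mem_insert_of_mem ?_
      obtain ⟨q, hq, hqd⟩ := Nat.exists_prime_and_dvd (n := orderOf z)
        (by rwa [Ne, orderOf_eq_one_iff])
      have hqp : q ≠ p := fun h => hq.ne_one (Nat.eq_one_of_dvd_coprimes hzc hqd (h ▸ dvd_rfl))
      have hqσ : q ∈ σ := Finset.mem_erase.mpr ⟨hqp, Nat.mem_primeFactors.mpr
        ⟨hq, hqd.trans (orderOf_dvd_natCard z), Nat.card_pos.ne'⟩⟩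
      haveI : Fact q.Prime := ⟨hq⟩
      obtain ⟨Q, hQ⟩ := (hKq1 q hqσ).exists_sylow_le hs (hKq2 q hqσ)
      set a := z ^ (orderOf z / q) with ha
      have hao : orderOf a = q := orderOf_pow_orderOf_div (orderOf_pos z).ne' hqd
      obtain ⟨R, hR⟩ := (IsPGroup.of_card (n := 1)
        (by rw [Nat.card_zpowers, hao, pow_one]) : IsPGroup q (zpowers a)).exists_le_sylow
      obtain ⟨g, hg⟩ := MulAction.exists_smul_eq G R Q
      have haK : g * a * g⁻¹ ∈ Kq q := hQ (by
        rw [← hg, Sylow.coe_subgroup_smul, mem_pointwise_smul_iff_inv_smul_mem]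
        simpa [MulAut.smul_def, mul_assoc] using hR (mem_zpowers a))
      have ha1 : g * a * g⁻¹ ≠ 1 := fun h => hq.ne_one (by
        rw [conj_eq_one_iff] at h
        rw [← hao, h, orderOf_one])
      have hcm : g * z * g⁻¹ * (g * a * g⁻¹) = g * a * g⁻¹ * (g * z * g⁻¹) := by
        calc _ = g * (z * a) * g⁻¹ := by group
          _ = g * (a * z) * g⁻¹ := by rw [ha, (Commute.self_pow z _).eq]
          _ = _ := by group
      obtain ⟨c, -, hc⟩ := (hKq1 q hqσ).elt_conj_into hs haK ha1 hcm (by
        rw [show orderOf (g * z * g⁻¹) = orderOf z from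
          orderOf_injective (MulAut.conj g).toMonoidHom (MulAut.conj g).injective z]
        exact hzc)
      refine Finset.mem_biUnion.mpr ⟨q, hqσ, Finset.mem_filter.mpr ⟨Finset.mem_univ _,
        Finset.mem_image.mpr ⟨_, Finset.mem_filter.mpr ⟨Finset.mem_univ _, hc, ?_⟩, ?_⟩⟩⟩
      · rw [Ne, conj_eq_one_iff, conj_eq_one_iff]
        exact hz1
      · rw [ConjClasses.mk_eq_mk_iff_isConj]
        exact (isConj_iff.mpr ⟨c * g, by group⟩).symm
    have hreg : regCount p (1 : G) ≤ 1 + ∑ q ∈ σ, (conjSet (YK q)).card := by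
      rw [regCount, Nat.card_eq_fintype_card, Fintype.card_subtype, add_comm]
      exact (Finset.card_le_card hsub).trans ((Finset.card_insert_le _ _).trans
        (Nat.add_le_add_right Finset.card_biUnion_le 1))
    calc p * regCount p (1 : G) ≤ p * (1 + ∑ q ∈ σ, (conjSet (YK q)).card) :=
          Nat.mul_le_mul_left _ hreg
      _ = p + ∑ q ∈ σ, p * (conjSet (YK q)).card := by rw [mul_add, mul_one, Finset.mul_sum]
      _ ≤ p + σ.card * Nat.card G := by
          refine Nat.add_le_add_left ?_ _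
          refine (Finset.sum_le_card_nsmul _ _ _ hDq).trans (le_of_eq ?_)
          rw [smul_eq_mul]
  -- the class equation
  have hsplit : Nat.card G ≤ regCount p (1 : G) + ∑ x ∈ conjSet YT, regCount p x +
      ∑ x ∈ conjSet YP, regCount p x := by
    refine (card_le_sum_regCount (p := p)).trans ?_
    refine (Finset.sum_le_sum_of_subset (t := {1} ∪ conjSet YT ∪ conjSet YP) fun y hy => ?_).trans
      ?_
    · obtain ⟨k, hk⟩ := (Finset.mem_filter.mp hy).2
      by_cases hy1 : y = 1
      · exact Finset.mem_union_left _ (Finset.mem_union_left _ (Finset.mem_singleton.mpr hy1))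
      by_cases hyT : y ∈ conjSet YT
      · exact Finset.mem_union_left _ (Finset.mem_union_right _ hyT)
      refine Finset.mem_union_right _ (Finset.mem_filter.mpr ⟨Finset.mem_univ _,
        Finset.mem_image.mpr ?_⟩)
      obtain ⟨i, -, hi⟩ := (Nat.dvd_prime_pow hp.out).mp hk
      obtain ⟨R, hR⟩ := (IsPGroup.of_card (n := i)
        (by rw [Nat.card_zpowers, hi]) : IsPGroup p (zpowers y)).exists_le_sylow
      obtain ⟨g, hg⟩ := MulAction.exists_smul_eq G R P
      refine ⟨g * y * g⁻¹, Finset.mem_filter.mpr ⟨Finset.mem_univ _, ?_, fun h => hy1 ?_,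
        fun h => hyT ?_⟩, ConjClasses.mk_eq_mk_iff_isConj.mpr (isConj_iff.mpr ⟨g, rfl⟩).symm⟩
      · rw [← hg, Sylow.coe_subgroup_smul, mem_pointwise_smul_iff_inv_smul_mem]
        simpa [MulAut.smul_def, mul_assoc] using hR (mem_zpowers y)
      · rwa [conj_eq_one_iff] at h
      · simp only [conjSet, Finset.mem_filter, Finset.mem_univ, true_and] at h ⊢
        rwa [show ConjClasses.mk y = ConjClasses.mk (g * y * g⁻¹) from
          ConjClasses.mk_eq_mk_iff_isConj.mpr (isConj_iff.mpr ⟨g, rfl⟩)]
    · have u : ∀ s t : Finset G, ∑ x ∈ s ∪ t, regCount p x ≤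
          ∑ x ∈ s, regCount p x + ∑ x ∈ t, regCount p x := fun s t => by
        rw [← Finset.sum_union_inter]; exact Nat.le_add_right _ _
      refine (u _ _).trans (Nat.add_le_add_right ((u _ _).trans ?_) _)
      rw [Finset.sum_singleton]
  -- arithmetic
  set g := Nat.card G
  set l := Nat.card (LP P) with hl
  set Pc := Nat.card (P : Subgroup G) with hPc
  have hlg : l < g := by
    refine lt_of_le_of_ne (Nat.le_of_dvd Nat.card_pos (card_subgroup_dvd_card _)) fun h => ?_
    exact hs.LP_ne_top P (eq_top_of_card_eq _ h)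
  have hl2 : 2 * Pc ≤ l := by
    rw [hl, hL.card, mul_comm 2]
    exact Nat.mul_le_mul_left _ ((one_lt_card_iff_ne_bot A).mpr hL.ne_bot)
  have hσle : 2 * (σ.card + 1) ≤ p := by
    have h1 : σ.card ≤ (p - 1).primeFactors.card := Finset.card_le_card fun q hq => by
      obtain ⟨hqp, hq'⟩ := Finset.mem_erase.mp hq
      exact Nat.mem_primeFactors.mpr ⟨Nat.prime_of_mem_primeFactors hq',
        hq1 q (Nat.prime_of_mem_primeFactors hq') (Nat.dvd_of_mem_primeFactors hq') hqp, by omega⟩
    have := two_mul_succ_le (n := p - 1) (by omega)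
    omega
  have hP1 : 1 ≤ Pc := Nat.card_pos
  obtain ⟨c, hc⟩ : ∃ c, Pc = c + 1 := ⟨Pc - 1, by omega⟩
  rw [hc, Nat.add_sub_cancel] at hP'
  rw [hc] at hl2
  set S₁ := regCount p (1 : G)
  set S₂ := ∑ x ∈ conjSet YT, regCount p x
  set S₃ := ∑ x ∈ conjSet YP, regCount p x
  have e1 : g * p * l ≤ l * (p * S₁) + l * (p * S₂) + p * (l * S₃) := by
    have := Nat.mul_le_mul_left (p * l) hsplit
    calc g * p * l = p * l * g := by ring
      _ ≤ p * l * (S₁ + S₂ + S₃) := this
      _ = _ := by ring
  have e2 : g * p * l ≤ l * (p + σ.card * g) + l * g + p * (g * c) :=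
    e1.trans (Nat.add_le_add (Nat.add_le_add (Nat.mul_le_mul_left _ hF1)
      (Nat.mul_le_mul_left _ hT)) (Nat.mul_le_mul_left _ hP'))
  nlinarith [Nat.mul_le_mul_left (g * p) hl2, Nat.mul_le_mul_right (g * l) hσle,
    Nat.mul_lt_mul_of_pos_left hlg hp.out.pos]

end CfsgLib.FgsC.APP
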