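import Cfsg.Agent.Lib.FgsC.AbelianPPrime.Basic
import Cfsg.Agent.Lib.Transfer.ControlZJ
import Cfsg.Agent.Lib.OddOrder.PStableCriterion
import Cfsg.Agent.Lib.OddOrder.ThompsonCentre
import Cfsg.Agent.Lib.Coprime.Action2
import Cfsg.Agent.Lib.Fusion.SylowAux
import Cfsg.Agent.Lib.Transfer.AbelianSylow

/-!
# Simple groups with abelian `p'`-subgroups: local structure

The normaliser of `Z(J(P))` is `P A` and controls fusion; invariant `p`-subgroups of a maximal
`p'`-subgroup are centralised by it.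
-/

set_option autoImplicit false
set_option linter.unusedSectionVars false
set_option linter.style.haveILetI false

open Subgroup Cfsg
open scoped Pointwise commutatorElement

universe u

namespace CfsgLib.FgsC.APP

open CfsgLib.Transfer (FusedBy ControlsFusion)

variable {G : Type u} [Group G] [Finite G] {p : ℕ} [hp : Fact p.Prime]

/-- `Z(J(P))`'s normaliser. -/
abbrev LP (P : Sylow p G) : Subgroup G :=
  normalizer (centerThompsonOf p (P : Subgroup G) : Set G)

theorem Setup.sylow_ne_bot (hs : Setup p G) (P : Sylow p G) : (P : Subgroup G) ≠ ⊥ := fun h => by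
  have := P.not_dvd_index
  rw [h, index_bot] at this
  exact this hs.dvd

theorem Setup.not_pGroup (hs : Setup p G) : ¬ IsPGroup p G := fun h => by
  haveI := hs.simple.toNontrivial
  have := h.center_nontrivial
  exact ((nontrivial_iff_ne_bot _).mp this) hs.center_eq_bot

theorem Setup.le_LP (P : Sylow p G) : (P : Subgroup G) ≤ LP P :=
  le_normalizer.trans (CfsgLib.OddOrder.normalizer_le_normalizer_centerThompsonOf p _)

theorem Setup.LP_ne_top (hs : Setup p G) (P : Sylow p G) : LP P ≠ ⊤ := fun h => by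
  rcases hs.eq_bot_or_top (normalizer_eq_top_iff.mp h) with h1 | h1
  · exact (CfsgLib.Transfer.subgroupFunctor_centerThompsonOf (p := p)).ne_bot G _ P.2
      (hs.sylow_ne_bot P) h1
  · refine hs.not_pGroup (fun g => ?_)
    obtain ⟨k, hk⟩ := P.2 ⟨g, CfsgLib.Transfer.centerThompsonOf_le _ (h1 ▸ mem_top g)⟩
    exact ⟨k, congrArg Subtype.val hk⟩

/-- `N(Z(J(P)))` controls fusion in `P`. -/
theorem Setup.controls (hs : Setup p G) (hp5 : 5 ≤ p) (P : Sylow p G) :
    ControlsFusion (P : Subgroup G) (LP P) := by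
  refine CfsgLib.Transfer.controlsFusion_centerThompsonOf (by omega)
    (CfsgLib.OddOrder.InvolvesSL2.not_of_abelian_sylow_two (by omega) fun T => hs.ab _ ?_) P
  obtain ⟨k, hk⟩ := T.2.exists_card_eq
  rw [hk]
  exact ((Nat.coprime_primes Nat.prime_two hp.out).mpr (by omega)).pow_left k

/-- An element of `L` acting on `A ⊆ P` as `g` does. -/
theorem Setup.exists_act (hs : Setup p G) (hp5 : 5 ≤ p) (P : Sylow p G) {A : Set G}
    (hA : A ⊆ (P : Subgroup G)) {g : G} (hg : ∀ a ∈ A, g * a * g⁻¹ ∈ (P : Subgroup G)) :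
    ∃ l ∈ LP P, ∀ a ∈ A, l * a * l⁻¹ = g * a * g⁻¹ := by
  obtain ⟨n, hn, h⟩ := hs.controls hp5 P A hA g⁻¹ (fun a ha => by
    rw [inv_inv]; exact hg a ha)
  refine ⟨n⁻¹, inv_mem hn, fun a ha => ?_⟩
  have := h a ha
  rw [inv_inv] at this ⊢
  exact this

/-- `N(Z(J(P)))` has no proper normal subgroup with `p`-group quotient. -/
theorem Setup.eq_top_of_quotient_pGroup (hs : Setup p G) (hp5 : 5 ≤ p) (P : Sylow p G)
    (R : Subgroup (LP P)) [R.Normal] (hR : IsPGroup p (LP P ⧸ R)) : R = ⊤ := by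
  classical
  by_contra hne
  haveI : Group.IsSolvable (LP P) := hs.solv _ (hs.LP_ne_top P)
  haveI : Nontrivial (LP P ⧸ R) := by
    rw [← not_subsingleton_iff_nontrivial]
    intro hsub
    exact hne (eq_top_iff.mpr fun x _ => (QuotientGroup.eq_one_iff x).mp (Subsingleton.elim _ _))
  set ψ : LP P →* Abelianization (LP P ⧸ R) :=
    Abelianization.of.comp (QuotientGroup.mk' R) with hψ
  have hψs : Function.Surjective ψ :=
    (QuotientGroup.mk_surjective (s := _root_.commutator (LP P ⧸ R))).comp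
      (QuotientGroup.mk'_surjective R)
  have hlt : _root_.commutator (LP P ⧸ R) < ⊤ := Group.IsSolvable.commutator_lt_top_of_nontrivial _
  have hA : IsPGroup p (Abelianization (LP P ⧸ R)) := hR.of_surjective Abelianization.of
    QuotientGroup.mk_surjective
  have hidx : ψ.ker.index ≠ 1 := fun h => hlt.ne (eq_top_iff.mpr fun x _ => by
    obtain ⟨y, rfl⟩ := QuotientGroup.mk'_surjective R x
    have hy : y ∈ ψ.ker := (Subgroup.index_eq_one.mp h) ▸ mem_top y
    exact (QuotientGroup.eq_one_iff _).mp hy)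
  set ϕ : (P : Subgroup G) →* Abelianization (LP P ⧸ R) :=
    ψ.comp (inclusion (Setup.le_LP P)) with hϕ
  obtain ⟨x, hx⟩ : ∃ x, ϕ x ≠ 1 := by
    by_contra hall
    push Not at hall
    have hle : (P : Subgroup G).subgroupOf (LP P) ≤ ψ.ker := fun y hy =>
      hall ⟨(y : G), hy⟩
    obtain ⟨q, hq, hqd⟩ := Nat.exists_prime_and_dvd hidx
    have h1 : ψ.ker.index ∣ ((P : Subgroup G).subgroupOf (LP P)).index := index_dvd_of_le hle
    have h2 : ψ.ker.index = Nat.card (Abelianization (LP P ⧸ R)) := by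
      rw [Subgroup.index_ker, MonoidHom.range_eq_top.mpr hψs, card_top]
    obtain ⟨k, hk⟩ := hA.exists_card_eq
    rw [h2, hk] at hqd
    obtain rfl := (Nat.prime_dvd_prime_iff_eq hq hp.out).mp (hq.dvd_of_dvd_pow hqd)
    rw [← hk, ← h2] at hqd
    exact P.not_dvd_index ((hqd.trans h1).trans (relIndex_dvd_index_of_le (Setup.le_LP P)))
  haveI : Fintype (Quotient (MulAction.orbitRel (zpowers (x : G)) (G ⧸ (P : Subgroup G)))) :=
    Fintype.ofFinite _
  have h1 : MonoidHom.transfer ϕ (x : G) = 1 :=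
    Abelianization.commutator_subset_ker _ (hs.commutator_eq_top ▸ mem_top (x : G))
  rw [MonoidHom.transfer_eq_prod_quotient_orbitRel_zpowers_quot] at h1
  have key : ∀ (k : ℕ) (g : G) (hg : g⁻¹ * (x : G) ^ k * g ∈ (P : Subgroup G)),
      ϕ ⟨g⁻¹ * (x : G) ^ k * g, hg⟩ = ϕ x ^ k := by
    intro k g hg
    obtain ⟨l, hl, hle⟩ := hs.exists_act hp5 P (A := {(x : G) ^ k}) (g := g⁻¹)
      (by intro a ha; rw [Set.mem_singleton_iff] at ha; rw [ha]; exact pow_mem x.2 k)
      (by intro a ha; rw [Set.mem_singleton_iff] at ha; rw [ha, inv_inv]; exact hg)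
    have e := hle _ rfl
    rw [inv_inv] at e
    have e2 : (inclusion (Setup.le_LP P) ⟨g⁻¹ * (x : G) ^ k * g, hg⟩ : LP P) =
        ⟨l, hl⟩ * inclusion (Setup.le_LP P) x ^ k * (⟨l, hl⟩ : LP P)⁻¹ :=
      Subtype.ext (by simpa using e.symm)
    change ψ (inclusion (Setup.le_LP P) _) = ψ (inclusion (Setup.le_LP P) x) ^ k
    rw [e2, map_mul ψ, map_mul ψ, map_pow ψ, map_inv ψ]
    exact mul_inv_cancel_comm _ _
  rw [Finset.prod_congr rfl fun q _ => key _ _ _, Finset.prod_pow_eq_pow_sum,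
    ← Subgroup.index_eq_sum_minimalPeriod] at h1
  obtain ⟨k, hk⟩ := IsPGroup.iff_orderOf.mp hA (ϕ x)
  have h2 := orderOf_dvd_of_pow_eq_one h1
  rw [hk] at h2
  rcases k with _ | k
  · exact hx (orderOf_eq_one_iff.mp (by rw [hk, pow_zero]))
  · exact P.not_dvd_index ((dvd_pow_self p k.succ_ne_zero).trans h2)

/-- The structure `N(Z(J(P))) = P A`. -/
structure LData (p : ℕ) (P : Sylow p G) (A : Subgroup G) : Prop where
  le : A ≤ LP P
  cop : (Nat.card A).Coprime p
  ne_bot : A ≠ ⊥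
  norm : LP P ≤ normalizer ((P : Subgroup G) : Set G)
  card : Nat.card (LP P) = Nat.card P * Nat.card A
  conj : ∀ z ∈ LP P, (orderOf z).Coprime p → ∃ m ∈ LP P, m * z * m⁻¹ ∈ A
  prod : ∀ l ∈ LP P, ∃ s ∈ (P : Subgroup G), ∃ a ∈ A, l = s * a

theorem Setup.exists_LData (hs : Setup p G) (hp5 : 5 ≤ p) (P : Sylow p G) :
    ∃ A, LData p P A := by
  haveI hsolv : Group.IsSolvable (LP P) := hs.solv _ (hs.LP_ne_top P)
  obtain ⟨A, -, ⟨hAL, hAc⟩, hAmax⟩ := Finite.exists_le_maximal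
    (p := fun H : Subgroup G => H ≤ LP P ∧ (Nat.card H).Coprime p) (a := ⊥)
    ⟨bot_le, by rw [card_bot]; exact Nat.coprime_one_left p⟩
  obtain ⟨hidx, hconj⟩ := hall_of_max hs (hs.LP_ne_top P) hAL hAc
    fun H hH hHc hle => le_antisymm (hAmax ⟨hH, hHc⟩ hle) hle
  set L := LP P with hL
  haveI : IsMulCommutative (A.subgroupOf L) := ⟨⟨fun a b => Subtype.ext (Subtype.ext
    (comm_of_mem hs hAc (mem_subgroupOf.mp a.2) (mem_subgroupOf.mp b.2)))⟩⟩
  have hA'c : (Nat.card (A.subgroupOf L)).Coprime p := by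
    rw [Nat.card_congr (subgroupOfEquivOfLe hAL).toEquiv]; exact hAc
  -- `O_p(L) A` is normal
  have hn : (A.subgroupOf L ⊔ pCore p L).Normal := by
    set U := pCore p L with hUdef
    haveI : U.Normal := pCore_normal p L
    set π := QuotientGroup.mk' U with hπdef
    haveI : IsMulCommutative ((A.subgroupOf L).map π) := ⟨⟨by
      rintro ⟨_, a, ha, rfl⟩ ⟨_, b, hb, rfl⟩
      exact Subtype.ext (by
        show π a * π b = π b * π a
        rw [← map_mul, ← map_mul, show a * b = b * a from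
          congrArg Subtype.val (‹IsMulCommutative (A.subgroupOf L)›.is_comm.comm ⟨a, ha⟩ ⟨b, hb⟩)])⟩⟩
    have h := (le_pCore_of_normalized (X := L ⧸ U) (H := (A.subgroupOf L).map π)
      (hA'c.coprime_dvd_left (Subgroup.card_map_dvd _ π))
      fun q hq hqp hd => hidx q hq hqp
        (hd.trans (index_map_dvd _ (QuotientGroup.mk'_surjective U)))).2 (by
        rw [CfsgLib.Base.pCore_quotient_pCore p L]; exact bot_le)
    have := h.comap π
    rwa [comap_map_eq, QuotientGroup.ker_mk'] at this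
  have hq : IsPGroup p (L ⧸ (A.subgroupOf L ⊔ pCore p L)) := by
    refine IsPGroup.of_card (n := (A.subgroupOf L ⊔ pCore p L).index.primeFactorsList.length) ?_
    rw [← index_eq_card]
    refine Nat.eq_prime_pow_of_unique_prime_dvd index_ne_zero_of_finite fun {d} hd hdd => ?_
    by_contra hne
    exact hidx d hd hne (hdd.trans (index_dvd_of_le le_sup_left))
  have htop := hs.eq_top_of_quotient_pGroup hp5 P _ hq
  haveI : (pCore p L).Normal := pCore_normal p L
  obtain ⟨n, hn'⟩ := (CfsgLib.Base.isPGroup_pCore p L).exists_card_eq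
  have hdisj : A.subgroupOf L ⊓ pCore p L = ⊥ :=
    CfsgLib.Coprime.inf_eq_bot_of_coprime (hn' ▸ hA'c.pow_right n)
  have hnorm : A.subgroupOf L ≤ normalizer (pCore p L : Set L) := by
    rw [normalizer_eq_top_iff.mpr inferInstance]; exact le_top
  have hcard := CfsgLib.Coprime.card_sup_of_inf_eq_bot hnorm hdisj
  rw [htop, card_top, Nat.card_congr (subgroupOfEquivOfLe hAL).toEquiv] at hcard
  have hPL : (P : Subgroup G).subgroupOf L = pCore p L := by
    have hle : pCore p L ≤ ((P.subtype (Setup.le_LP P) : Sylow p L) : Subgroup L) :=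
      CfsgLib.Base.pCore_le_sylow _
    rw [Sylow.coe_subtype] at hle
    refine (eq_of_le_of_card_ge hle ?_).symm
    obtain ⟨k, hk⟩ := P.2.exists_card_eq
    have hd : Nat.card P ∣ Nat.card L := card_dvd_of_le (Setup.le_LP P)
    rw [hcard, hk] at hd
    rw [Nat.card_congr (subgroupOfEquivOfLe (Setup.le_LP P)).toEquiv, hk]
    exact Nat.le_of_dvd Nat.card_pos ((hAc.symm.pow_left k).dvd_of_dvd_mul_left hd)
  have hcard' : Nat.card L = Nat.card P * Nat.card A := by
    rw [hcard, ← hPL, Nat.card_congr (subgroupOfEquivOfLe (Setup.le_LP P)).toEquiv, mul_comm]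
  refine ⟨A, hAL, hAc, ?_, (normal_subgroupOf_iff_le_normalizer (Setup.le_LP P)).mp
    (hPL ▸ (inferInstance : (pCore p L).Normal)), hcard', ?_, ?_⟩
  · rintro rfl
    haveI : (⊥ : Subgroup L).Normal := inferInstance
    have hLp : IsPGroup p L := by
      obtain ⟨k, hk⟩ := P.2.exists_card_eq
      exact IsPGroup.of_card (n := k) (by rw [hcard', card_bot, mul_one, hk])
    have h := hs.eq_top_of_quotient_pGroup hp5 P ⊥ (hLp.to_quotient ⊥)
    refine hs.sylow_ne_bot P ((Subgroup.eq_bot_iff_forall _).mpr fun x hx => ?_)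
    have hm : (⟨x, Setup.le_LP P hx⟩ : L) ∈ (⊥ : Subgroup L) := h ▸ mem_top _
    exact congrArg Subtype.val (mem_bot.mp hm)
  · intro z hz hzc
    obtain ⟨m, hm, h⟩ := hconj (zpowers z) (zpowers_le.mpr hz) (by rwa [Nat.card_zpowers])
    exact ⟨m, hm, h z (mem_zpowers z)⟩
  · intro l hl
    have hm : (⟨l, hl⟩ : L) ∈ (P : Subgroup G).subgroupOf L ⊔ A.subgroupOf L := by
      rw [hPL, sup_comm, htop]; exact mem_top _
    haveI : ((P : Subgroup G).subgroupOf L).Normal := hPL ▸ inferInstance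
    obtain ⟨s, hs', a, ha, e⟩ := mem_sup_of_normal_left.mp hm
    exact ⟨s, hs', a, ha, (congrArg Subtype.val e).symm⟩

/-- A commutator of elements normalising `X ≤ P`, of `p'`-order, centralises `X`. -/
theorem Setup.commutator_centralizes (hs : Setup p G) (hp5 : 5 ≤ p) {P : Sylow p G} {A : Subgroup G}
    (hL : LData p P A) {X : Subgroup G} (hX : X ≤ (P : Subgroup G)) {k n : G}
    (hk : k ∈ normalizer (X : Set G)) (hn : n ∈ normalizer (X : Set G))
    (hc : (orderOf ⁅k, n⁆).Coprime p) : ⁅k, n⁆ ∈ centralizer (X : Set G) := by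
  obtain ⟨lk, hlk, hk'⟩ := hs.exists_act hp5 P (A := (X : Set G)) (fun a ha => hX ha) (g := k)
    (fun a ha => hX ((mem_set_normalizer_iff.mp hk a).mp ha))
  obtain ⟨ln, hln, hn'⟩ := hs.exists_act hp5 P (A := (X : Set G)) (fun a ha => hX ha) (g := n)
    (fun a ha => hX ((mem_set_normalizer_iff.mp hn a).mp ha))
  have hconj : ∀ {g : G}, g ∈ normalizer (X : Set G) → ∀ a ∈ X, g * a * g⁻¹ ∈ X :=
    fun hg a ha => (mem_set_normalizer_iff.mp hg a).mp ha
  have hinv : ∀ {g l : G}, g ∈ normalizer (X : Set G) → (∀ a ∈ X, l * a * l⁻¹ = g * a * g⁻¹) →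
      ∀ a ∈ X, l⁻¹ * a * l⁻¹⁻¹ = g⁻¹ * a * g⁻¹⁻¹ := by
    intro g l hg h a ha
    have h1 := h _ (hconj (inv_mem hg) a ha)
    have h2 : g * (g⁻¹ * a * g⁻¹⁻¹) * g⁻¹ = a := by group
    rw [h2] at h1
    conv_lhs => rw [← h1]
    group
  set d := ⁅lk, ln⁆ with hd
  set c := ⁅k, n⁆ with hcd
  have hact : ∀ a ∈ X, d * a * d⁻¹ = c * a * c⁻¹ := by
    intro a ha
    have e1 := hinv hn hn' a ha
    have e2 := hinv hk hk' _ (hconj (inv_mem hn) a ha)
    have e3 := hn' _ (hconj (inv_mem hk) _ (hconj (inv_mem hn) a ha))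
    have e4 := hk' _ (hconj hn _ (hconj (inv_mem hk) _ (hconj (inv_mem hn) a ha)))
    calc d * a * d⁻¹ = lk * (ln * (lk⁻¹ * (ln⁻¹ * a * ln⁻¹⁻¹) * lk⁻¹⁻¹) * ln⁻¹) * lk⁻¹ := by
          rw [hd, commutatorElement_def]; group
      _ = k * (n * (k⁻¹ * (n⁻¹ * a * n⁻¹⁻¹) * k⁻¹⁻¹) * n⁻¹) * k⁻¹ := by rw [e1, e2, e3, e4]
      _ = c * a * c⁻¹ := by rw [hcd, commutatorElement_def]; group
  -- `d` lies in `P`
  have hdP : d ∈ (P : Subgroup G) := by
    haveI hPn : ((P : Subgroup G).subgroupOf (LP P)).Normal :=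
      (normal_subgroupOf_iff_le_normalizer (Setup.le_LP P)).mpr hL.norm
    set π := QuotientGroup.mk' ((P : Subgroup G).subgroupOf (LP P))
    have hsur : ∀ l : LP P, ∃ a : G, ∃ ha : a ∈ A, π l = π ⟨a, hL.le ha⟩ := by
      intro l
      obtain ⟨s, hs', a, ha, e⟩ := hL.prod l l.2
      refine ⟨a, ha, ?_⟩
      rw [show l = (⟨s, Setup.le_LP P hs'⟩ : LP P) * ⟨a, hL.le ha⟩ from Subtype.ext e, map_mul,
        show π ⟨s, Setup.le_LP P hs'⟩ = 1 from (QuotientGroup.eq_one_iff _).mpr hs', one_mul]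
    obtain ⟨a, ha, ea⟩ := hsur ⟨lk, hlk⟩
    obtain ⟨b, hb, eb⟩ := hsur ⟨ln, hln⟩
    have : π ⁅(⟨lk, hlk⟩ : LP P), (⟨ln, hln⟩ : LP P)⁆ = 1 := by
      rw [map_commutatorElement, ea, eb, ← map_commutatorElement,
        show ⁅(⟨a, hL.le ha⟩ : LP P), (⟨b, hL.le hb⟩ : LP P)⁆ = 1 from
          commutatorElement_eq_one_iff_mul_comm.mpr (Subtype.ext (comm_of_mem hs hL.cop ha hb)),
        map_one]
    have h := (QuotientGroup.eq_one_iff _).mp this
    exact mem_subgroupOf.mp h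
  have hcN : c ∈ normalizer (X : Set G) := by
    rw [hcd, commutatorElement_def]
    exact mul_mem (mul_mem (mul_mem hk hn) (inv_mem hk)) (inv_mem hn)
  obtain ⟨j, hj⟩ := P.2 ⟨d, hdP⟩
  have hdj : d ^ p ^ j = 1 := congrArg Subtype.val hj
  have hpow : ∀ (i : ℕ), ∀ a ∈ X, d ^ i * a * (d ^ i)⁻¹ = c ^ i * a * (c ^ i)⁻¹ := by
    intro i
    induction i with
    | zero => simp
    | succ i ih =>
      intro a ha
      calc d ^ (i + 1) * a * (d ^ (i + 1))⁻¹ = d ^ i * (d * a * d⁻¹) * (d ^ i)⁻¹ := by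
            rw [pow_succ]; group
        _ = c ^ i * (c * a * c⁻¹) * (c ^ i)⁻¹ := by rw [hact a ha, ih _ (hconj hcN a ha)]
        _ = _ := by rw [pow_succ]; group
  have hcp : c ^ p ^ j ∈ centralizer (X : Set G) := by
    refine mem_centralizer_iff.mpr fun a ha => ?_
    have h := hpow (p ^ j) a ha
    rw [hdj, one_mul, inv_one, mul_one] at h
    nth_rewrite 1 [h]
    group
  obtain ⟨i, hi⟩ := exists_pow_eq_self_of_coprime (hc.symm.pow_left j)
  rw [← hi]
  exact pow_mem hcp i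

/-- A `p`-subgroup normalised by `K`. -/
def Inv (p : ℕ) (K V : Subgroup G) : Prop := IsPGroup p V ∧ K ≤ normalizer (V : Set G)

variable {K : Subgroup G}

theorem Inv.ne_top (hs : Setup p G) {V : Subgroup G} (hV : Inv p K V) : V ≠ ⊤ := by
  rintro rfl
  exact hs.not_pGroup (hV.1.of_equiv topEquiv)

theorem inv_pCore {M : Subgroup G} (hKM : K ≤ M) : Inv p K ((pCore p M).map M.subtype) :=
  ⟨CfsgLib.Base.isPGroup_map_pCore p M, hKM.trans (CfsgLib.Base.le_normalizer_map_pCore M)⟩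

theorem MaxP.inv_le_pCore (hs : Setup p G) (hK : MaxP p K) {M V : Subgroup G} (hM : M ≠ ⊤)
    (hKM : K ≤ M) (hV : Inv p K V) (hVM : V ≤ M) : V ≤ (pCore p M).map M.subtype := by
  haveI := hs.solv M hM
  haveI : IsMulCommutative (K.subgroupOf M) := ⟨⟨fun a b => Subtype.ext (Subtype.ext
    (comm_of_mem hs hK.cop (mem_subgroupOf.mp a.2) (mem_subgroupOf.mp b.2)))⟩⟩
  have h := (le_pCore_of_normalized (X := M) (H := K.subgroupOf M)
    (by rw [Nat.card_congr (subgroupOfEquivOfLe hKM).toEquiv]; exact hK.cop)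
    (hK.hall_index hs hM hKM)).1 (V.subgroupOf M) hV.1.comap_subtype (by
      intro k hk
      rw [mem_set_normalizer_iff]
      intro v
      exact mem_set_normalizer_iff.mp (hV.2 (mem_subgroupOf.mp hk)) (v : G))
  calc V = (V.subgroupOf M).map M.subtype := (map_subgroupOf_eq_of_le hVM).symm
    _ ≤ _ := map_mono h

theorem MaxP.le_normalizer_of_pCore (hs : Setup p G) (hK : MaxP p K) {M : Subgroup G} (hM : M ≠ ⊤)
    (hKM : K ≤ M) (h : (pCore p M).map M.subtype ≤ centralizer (K : Set G)) :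
    M ≤ normalizer (K : Set G) := by
  haveI := hs.solv M hM
  haveI : IsMulCommutative (K.subgroupOf M) := ⟨⟨fun a b => Subtype.ext (Subtype.ext
    (comm_of_mem hs hK.cop (mem_subgroupOf.mp a.2) (mem_subgroupOf.mp b.2)))⟩⟩
  refine (normal_subgroupOf_iff_le_normalizer hKM).mp ((le_pCore_of_normalized (X := M)
    (H := K.subgroupOf M) (by rw [Nat.card_congr (subgroupOfEquivOfLe hKM).toEquiv]; exact hK.cop)
    (hK.hall_index hs hM hKM)).2 fun u hu => mem_centralizer_iff.mpr fun k hk => ?_)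
  exact Subtype.ext (mem_centralizer_iff.mp (h (mem_map_of_mem _ hu)) (k : G) hk)

/-- The largest elementary abelian `q`-subgroup of the abelian group `K` has order at least
`q ^ 3`. -/
theorem MaxP.exists_elementary (hs : Setup p G) (hp5 : 5 ≤ p)
    (hq1 : ∀ q : ℕ, q.Prime → q ∣ Nat.card G → q ≠ p → q ∣ p - 1)
    (hK : MaxP p K) (hne : K ≠ ⊥) :
    ∃ q : ℕ, q.Prime ∧ ∃ E : Subgroup G, E ≤ K ∧ (∀ e ∈ E, e ^ q = 1) ∧ q ^ 3 ≤ Nat.card E := by
  obtain ⟨q, hq, hqK⟩ := Nat.exists_prime_and_dvd (n := Nat.card K)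
    (fun h => hne (card_eq_one.mp h))
  have hqp : q ≠ p := fun h => hq.ne_one (Nat.eq_one_of_dvd_coprimes hK.cop hqK (h ▸ dvd_rfl))
  haveI : Fact q.Prime := ⟨hq⟩
  let E : Subgroup G :=
    { carrier := {x | x ∈ K ∧ x ^ q = 1}
      one_mem' := ⟨K.one_mem, one_pow q⟩
      mul_mem' := fun {a b} ha hb => ⟨K.mul_mem ha.1 hb.1, by
        rw [(show Commute a b from comm_of_mem hs hK.cop ha.1 hb.1).mul_pow, ha.2, hb.2, one_mul]⟩
      inv_mem' := fun {a} ha => ⟨K.inv_mem ha.1, by rw [inv_pow, ha.2, inv_one]⟩ }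
  have hEK : E ≤ K := fun x hx => hx.1
  have hEq : IsPGroup q E := fun x => ⟨1, Subtype.ext (by rw [pow_one]; exact x.2.2)⟩
  obtain ⟨m, hm⟩ := hEq.exists_card_eq
  refine ⟨q, hq, E, hEK, fun e he => he.2, hm ▸ Nat.pow_le_pow_right hq.pos ?_⟩
  obtain ⟨a, ha⟩ := exists_prime_orderOf_dvd_card' q hqK
  have haE : (a : G) ∈ E := ⟨a.2, by rw [← ha]; exact congrArg Subtype.val (pow_orderOf_eq_one a)⟩
  -- a `p`-element of `N(K)` moving `a`
  obtain ⟨y, hyN, hyp, hya⟩ : ∃ y ∈ normalizer (K : Set G), (∃ k, orderOf y ∣ p ^ k) ∧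
      y * (a : G) ≠ (a : G) * y := by
    by_contra hno
    push Not at hno
    refine hq.ne_one (ha.symm.trans (orderOf_eq_one_iff.mpr (Subtype.ext
      (hK.eq_one_of_central hs a.2 fun n hn => ?_))))
    obtain ⟨y, hy, z, hz, e, hyp, hzc⟩ := CfsgLib.Transfer.exists_pPart_mul (p := p) n
    have hzK : z ∈ K := hK.elt_le hs hne (zpowers_le.mpr hn hz) hzc
    rw [← e]
    exact (Commute.mul_left (hno y (zpowers_le.mpr hn hy) hyp)
      (comm_of_mem hs hK.cop hzK a.2 : Commute z (a : G)))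
  have hEn : y ∈ normalizer (E : Set G) := by
    refine mem_set_normalizer_iff.mpr fun x => ?_
    show (x ∈ K ∧ x ^ q = 1) ↔ (y * x * y⁻¹ ∈ K ∧ (y * x * y⁻¹) ^ q = 1)
    rw [conj_pow, show y * x * y⁻¹ ∈ K ↔ x ∈ K from (mem_set_normalizer_iff.mp hyN x).symm]
    refine and_congr_right fun _ => ⟨fun h => by rw [h, mul_one, mul_inv_cancel], fun h => ?_⟩
    rwa [mul_inv_eq_one, mul_eq_left] at h
  set f := E.normalizerMonoidHom ⟨y, hEn⟩ with hf
  obtain ⟨k, hk⟩ := hyp
  have hfd : orderOf f ∣ p ^ k := (orderOf_map_dvd _ _).trans (by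
    rw [← orderOf_injective (normalizer (E : Set G)).subtype (subtype_injective _)]; exact hk)
  have hf1 : f ≠ 1 := fun h => hya (by
    have h1 := congrArg (fun φ : MulAut E => ((φ ⟨(a : G), haE⟩ : E) : G)) h
    have h2 : y * (a : G) * y⁻¹ = (a : G) := by simpa [hf] using h1
    nth_rewrite 2 [← h2]
    group)
  obtain ⟨i, -, hi⟩ := (Nat.dvd_prime_pow hp.out).mp hfd
  have hi0 : p ∣ orderOf f := by
    rw [hi]
    refine dvd_pow_self p fun h0 => hf1 ?_
    rw [← orderOf_eq_one_iff, hi, h0, pow_zero]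
  obtain ⟨j, hj1, hjm, hjd⟩ := CfsgLib.Transfer.exists_dvd_pow_sub_one_of_mulAut (p := q) (q := p)
    hm (Ne.symm hqp) (orderOf_pow_orderOf_div (orderOf_pos f).ne' hi0)
  have hqd : q ∣ p - 1 := hq1 q hq (hqK.trans (card_subgroup_dvd_card K)) hqp
  have hqlt : q ≤ p - 1 := Nat.le_of_dvd (by omega) hqd
  by_contra hlt
  have hj : j = 1 ∨ j = 2 := by omega
  have h2 := hq.two_le
  rcases hj with rfl | rfl
  · have := Nat.le_of_dvd (by rw [pow_one]; omega) hjd
    rw [pow_one] at this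
    omega
  · have e : q ^ 2 - 1 = (q + 1) * (q - 1) := by
      rw [show q ^ 2 - 1 = q ^ 2 - 1 ^ 2 by norm_num, Nat.sq_sub_sq]
    rw [e] at hjd
    rcases (hp.out.dvd_mul).mp hjd with h | h <;> have := Nat.le_of_dvd (by omega) h
    · -- `q = p - 1`
      have hqe : q = p - 1 := by omega
      have hodd := hp.out.odd_of_ne_two (by omega)
      obtain ⟨r, hr⟩ := hodd
      have h2q : 2 ∣ q := ⟨r, by omega⟩
      have := (Nat.prime_dvd_prime_iff_eq Nat.prime_two hq).mp h2q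
      omega
    · omega

/-- Two maximal invariant subgroups coincide, so there is a largest one. -/
theorem MaxP.exists_greatest_inv (hs : Setup p G) (hp5 : 5 ≤ p)
    (hq1 : ∀ q : ℕ, q.Prime → q ∣ Nat.card G → q ≠ p → q ∣ p - 1)
    (hK : MaxP p K) (hne : K ≠ ⊥) :
    ∃ W, Inv p K W ∧ ∀ V, Inv p K V → V ≤ W := by
  obtain ⟨q, hq, E, hEK, hEq, hE3⟩ := hK.exists_elementary hs hp5 hq1 hne
  have main : ∀ n : ℕ, ∀ W₁ W₂ : Subgroup G, Maximal (Inv p K) W₁ → Maximal (Inv p K) W₂ →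
      Nat.card G - Nat.card ↥(W₁ ⊓ W₂) = n → W₁ = W₂ := by
    intro n
    induction n using Nat.strong_induction_on with
    | _ n ih =>
    intro W₁ W₂ h₁ h₂ hn
    set D := W₁ ⊓ W₂ with hD
    by_cases hD1 : D = W₁
    · exact le_antisymm (inf_eq_left.mp hD1) (h₁.2 h₂.1 (inf_eq_left.mp hD1))
    by_cases hD2 : D = W₂
    · exact le_antisymm (h₂.2 h₁.1 (inf_eq_right.mp hD2)) (inf_eq_right.mp hD2)
    have step : ∀ W₃, Maximal (Inv p K) W₃ → ∀ R₁ R₂ : Subgroup G, R₁ ≤ W₁ → R₂ ≤ W₂ → R₁ ≤ W₃ →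
        R₂ ≤ W₃ → Nat.card D < Nat.card R₁ → Nat.card D < Nat.card R₂ → W₁ = W₂ := by
      intro W₃ h₃ R₁ R₂ a1 a2 b1 b2 c1 c2
      have l1 : Nat.card D < Nat.card ↥(W₁ ⊓ W₃) :=
        c1.trans_le (Nat.le_of_dvd Nat.card_pos (card_dvd_of_le (le_inf a1 b1)))
      have l2 : Nat.card D < Nat.card ↥(W₂ ⊓ W₃) :=
        c2.trans_le (Nat.le_of_dvd Nat.card_pos (card_dvd_of_le (le_inf a2 b2)))
      have u : ∀ H : Subgroup G, Nat.card H ≤ Nat.card G := fun H =>
        Nat.le_of_dvd Nat.card_pos (card_subgroup_dvd_card H)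
      rw [ih _ (by have := u (W₁ ⊓ W₃); omega) W₁ W₃ h₁ h₃ rfl,
        ih _ (by have := u (W₂ ⊓ W₃); omega) W₂ W₃ h₂ h₃ rfl]
    by_cases hD0 : D = ⊥
    · -- connect through the centraliser of a common element
      have hyp : ∀ W : Subgroup G, Inv p K W → W ≠ ⊥ → ∃ B ≤ E, Nat.card E ≤ Nat.card B * q ∧
          W ⊓ centralizer (B : Set G) ≠ ⊥ := by
        intro W hW hW0
        by_contra hno
        push Not at hno
        haveI : IsMulCommutative E := ⟨⟨fun a b => Subtype.ext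
          (comm_of_mem hs hK.cop (hEK a.2) (hEK b.2))⟩⟩
        obtain ⟨w, hw⟩ := hW.1.exists_card_eq
        refine hW0 (le_bot_iff.mp (CfsgLib.Coprime.le_of_cyclic_quotient (A := E) (R := ⊥)
          (hEK.trans hW.2) (hw ▸ (hK.cop.coprime_dvd_left (card_dvd_of_le hEK)).pow_right w)
          fun B hB hBc => ?_))
        obtain ⟨a, ha, e⟩ := hBc
        refine le_of_eq (hno B hB ?_)
        have hd := CfsgLib.Coprime.card_sup_dvd (H := zpowers a) (N := B) (by
          rw [zpowers_le]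
          exact centralizer_le_normalizer _ (mem_centralizer_iff.mpr fun b hb =>
            comm_of_mem hs hK.cop (hEK (hB hb)) (hEK ha)))
        rw [sup_comm, e, Nat.card_zpowers] at hd
        calc Nat.card E ≤ orderOf a * Nat.card B :=
              Nat.le_of_dvd (Nat.mul_pos (orderOf_pos a) Nat.card_pos) hd
          _ ≤ q * Nat.card B := Nat.mul_le_mul_right _
              (Nat.le_of_dvd hq.pos (orderOf_dvd_of_pow_eq_one (hEq a ha)))
          _ = Nat.card B * q := mul_comm _ _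
      obtain ⟨B₁, hB₁, hc₁, hn₁⟩ := hyp W₁ h₁.1 (fun h => hD1 (hD0.trans h.symm))
      obtain ⟨B₂, hB₂, hc₂, hn₂⟩ := hyp W₂ h₂.1 (fun h => hD2 (hD0.trans h.symm))
      have hB : B₁ ⊓ B₂ ≠ ⊥ := by
        intro h
        have hnB : B₁ ≤ normalizer (B₂ : Set G) := fun b hb =>
          centralizer_le_normalizer _ (mem_centralizer_iff.mpr fun c hc =>
            comm_of_mem hs hK.cop (hEK (hB₂ hc)) (hEK (hB₁ hb)))
        have hs' := CfsgLib.Coprime.card_sup_of_inf_eq_bot hnB h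
        have hle : Nat.card B₁ * Nat.card B₂ ≤ Nat.card E :=
          hs' ▸ Nat.le_of_dvd Nat.card_pos (card_dvd_of_le (sup_le hB₁ hB₂))
        have h1 : Nat.card E * Nat.card E ≤ Nat.card E * (q * q) :=
          calc Nat.card E * Nat.card E ≤ (Nat.card B₁ * q) * (Nat.card B₂ * q) :=
                Nat.mul_le_mul hc₁ hc₂
            _ = (Nat.card B₁ * Nat.card B₂) * (q * q) := by ring
            _ ≤ _ := Nat.mul_le_mul_right _ hle
        have h2 := Nat.le_of_mul_le_mul_left h1 Nat.card_pos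
        have h3 : q * q < q ^ 3 := by
          rw [show q ^ 3 = q * q * q by ring]
          exact lt_mul_of_one_lt_right (Nat.mul_pos hq.pos hq.pos) hq.one_lt
        omega
      obtain ⟨⟨e, he⟩, he1⟩ := ne_bot_iff_exists_ne_one.mp hB
      have he1' : e ≠ 1 := fun h => he1 (Subtype.ext h)
      obtain ⟨heB₁, heB₂⟩ := mem_inf.mp he
      have hC := hs.centralizer_ne_top he1'
      have hKC : K ≤ centralizer ({e} : Set G) :=
        le_centralizer_of_mem hs hK.cop (hEK (hB₁ heB₁))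
      obtain ⟨W₃, hle₃, h₃⟩ := Finite.exists_le_maximal (p := Inv p K)
        (inv_pCore (p := p) (K := K) hKC)
      have hR : ∀ W, Inv p K W → W ⊓ centralizer ({e} : Set G) ≤ W₃ := fun W hW =>
        (hK.inv_le_pCore hs hC hKC ⟨hW.1.to_le inf_le_left, fun k hk =>
          CfsgLib.Coprime.le_normalizer_inf_inf hW.2 (hKC.trans le_normalizer) hk⟩
          inf_le_right).trans hle₃
      have hpos : ∀ (W B : Subgroup G), e ∈ B → W ⊓ centralizer (B : Set G) ≠ ⊥ →
          Nat.card D < Nat.card ↥(W ⊓ centralizer ({e} : Set G)) := by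
        intro W B hb hne'
        rw [hD0, card_bot]
        exact (one_lt_card_iff_ne_bot _).mpr (ne_bot_of_le_ne_bot hne'
          (inf_le_inf_left _ (centralizer_le (Set.singleton_subset_iff.mpr hb))))
      exact step W₃ h₃ _ _ inf_le_left inf_le_left (hR W₁ h₁.1) (hR W₂ h₂.1)
        (hpos W₁ B₁ heB₁ hn₁) (hpos W₂ B₂ heB₂ hn₂)
    · -- work in the normaliser of the intersection
      have hKD : K ≤ normalizer (D : Set G) :=
        CfsgLib.Coprime.le_normalizer_inf_inf h₁.1.2 h₂.1.2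
      have hM : normalizer (D : Set G) ≠ ⊤ := fun h => by
        rcases hs.eq_bot_or_top (normalizer_eq_top_iff.mp h) with h' | h'
        · exact hD0 h'
        · exact h₁.1.ne_top hs (top_le_iff.mp (h' ▸ inf_le_left))
      obtain ⟨W₃, hle₃, h₃⟩ := Finite.exists_le_maximal (p := Inv p K)
        (inv_pCore (p := p) (K := K) hKD)
      have hR : ∀ W, Inv p K W → W ⊓ normalizer (D : Set G) ≤ W₃ := fun W hW =>
        (hK.inv_le_pCore hs hM hKD ⟨hW.1.to_le inf_le_left, fun k hk =>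
          CfsgLib.Coprime.le_normalizer_inf_inf hW.2 (hKD.trans le_normalizer) hk⟩
          inf_le_right).trans hle₃
      have hlt : ∀ W, Inv p K W → D ≤ W → D ≠ W →
          Nat.card D < Nat.card ↥(W ⊓ normalizer (D : Set G)) := by
        intro W hW hle hne'
        have := CfsgLib.Fusion.lt_inf_normalizer hW.1 (lt_of_le_of_ne hle hne')
        exact CfsgLib.Transfer.card_lt_card_of_lt this
      exact step W₃ h₃ _ _ inf_le_left inf_le_left (hR W₁ h₁.1) (hR W₂ h₂.1)
        (hlt W₁ h₁.1 inf_le_left hD1) (hlt W₂ h₂.1 inf_le_right hD2)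
  have hbot : Inv p K ⊥ := ⟨IsPGroup.of_bot, by
    rw [normalizer_eq_top_iff.mpr inferInstance]; exact le_top⟩
  obtain ⟨W, -, hW⟩ := Finite.exists_le_maximal (p := Inv p K) hbot
  refine ⟨W, hW.1, fun V hV => ?_⟩
  obtain ⟨W', hVW', hW'⟩ := Finite.exists_le_maximal (p := Inv p K) hV
  rwa [main _ W' W hW' hW rfl] at hVW'

/-- The centraliser of a non-trivial element of `K` normalises `K`. -/
theorem MaxP.centralizer_le_normalizer' (hs : Setup p G) (hp5 : 5 ≤ p)
    (hq1 : ∀ q : ℕ, q.Prime → q ∣ Nat.card G → q ≠ p → q ∣ p - 1)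
    (hK : MaxP p K) {a : G} (ha : a ∈ K) (ha1 : a ≠ 1) :
    centralizer ({a} : Set G) ≤ normalizer (K : Set G) := by
  have hne : K ≠ ⊥ := fun h => ha1 (mem_bot.mp (h ▸ ha))
  obtain ⟨W, hW, hmax⟩ := hK.exists_greatest_inv hs hp5 hq1 hne
  obtain ⟨P, hWP⟩ := hW.1.exists_le_sylow
  obtain ⟨A, hL⟩ := hs.exists_LData hp5 P
  have hNW : normalizer (K : Set G) ≤ normalizer (W : Set G) := by
    intro n hn
    rw [mem_normalizer_iff_map_conj_eq]
    refine eq_of_le_of_card_ge (hmax _ ⟨hW.1.map _, fun k hk => ?_⟩)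
      (card_map_of_injective (MulAut.conj n).injective).ge
    have hk' : n⁻¹ * k * n⁻¹⁻¹ ∈ K := (mem_set_normalizer_iff.mp (inv_mem hn) k).mp hk
    have h := hW.2 hk'
    rw [mem_normalizer_iff_map_conj_eq] at h ⊢
    have hcomp : (MulAut.conj k).toMonoidHom.comp (MulAut.conj n).toMonoidHom =
        (MulAut.conj n).toMonoidHom.comp (MulAut.conj (n⁻¹ * k * n⁻¹⁻¹)).toMonoidHom := by
      ext x; simp [mul_assoc]
    exact (Subgroup.map_map _ _ _).trans ((congrArg (fun f => W.map f) hcomp).trans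
      ((Subgroup.map_map _ _ _).symm.trans (congrArg (Subgroup.map _) h)))
  have hKW : K ≤ centralizer (W : Set G) := by
    refine (hK.le_commutator_normalizer hs hne).trans (commutator_le.mpr fun k hk n hn => ?_)
    refine hs.commutator_centralizes hp5 hL hWP (hW.2 hk) (hNW hn) ?_
    have hmem : ⁅k, n⁆ ∈ K := by
      rw [commutatorElement_def, show k * n * k⁻¹ * n⁻¹ = k * (n * k⁻¹ * n⁻¹) by group]
      exact mul_mem hk ((mem_set_normalizer_iff.mp hn _).mp (inv_mem hk))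
    exact hK.cop.coprime_dvd_left (by
      rw [show orderOf ⁅k, n⁆ = orderOf (⟨_, hmem⟩ : K) from
        orderOf_injective K.subtype K.subtype_injective ⟨_, hmem⟩]
      exact orderOf_dvd_natCard _)
  exact hK.le_normalizer_of_pCore hs (hs.centralizer_ne_top ha1)
    (le_centralizer_of_mem hs hK.cop ha)
    ((hmax _ (inv_pCore (le_centralizer_of_mem hs hK.cop ha))).trans (le_centralizer_iff.mp hKW))

end CfsgLib.FgsC.APP
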