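import Cfsg.Agent.Lib.FgsC.AbelianPPrime.Count
import Cfsg.Agent.Lib.Chars.Burnside
import Cfsg.Agent.Lib.Base.HallConverse

/-!
# Solvability when the `p'`-subgroups are abelian of exponent dividing `p - 1`
-/

set_option autoImplicit false
set_option linter.style.haveILetI false

open Subgroup Cfsg
open scoped Pointwise

universe u

namespace CfsgLib.FgsC.APP

variable {p : ℕ} [hp : Fact p.Prime]

theorem isSolvable_aux (hp5 : 5 ≤ p) : ∀ (n : ℕ) (G : Type u) [Group G] [Finite G],
    Nat.card G ≤ n → (∀ H : Subgroup G, (Nat.card H).Coprime p → IsMulCommutative H) →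
      (∀ q : ℕ, q.Prime → q ∣ Nat.card G → q ≠ p → q ∣ p - 1) → Group.IsSolvable G := by
  intro n
  induction n with
  | zero => intro G _ _ hn; exact absurd hn (by have := Nat.card_pos (α := G); omega)
  | succ n ih =>
    intro G _ _ hn hab hq
    by_cases hpd : ¬ p ∣ Nat.card G
    · have h := hab ⊤ (by
        rw [card_top, Nat.coprime_comm, hp.out.coprime_iff_not_dvd]; exact hpd)
      exact Group.isSolvable_of_comm fun a b =>
        congrArg Subtype.val (h.is_comm.comm (⟨a, mem_top a⟩ : (⊤ : Subgroup G)) ⟨b, mem_top b⟩)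
    rw [not_not] at hpd
    by_cases hcomm : ∀ a b : G, a * b = b * a
    · exact Group.isSolvable_of_comm hcomm
    push Not at hcomm
    have hsub : ∀ H : Subgroup G, H ≠ ⊤ → Group.IsSolvable H := by
      intro H hH
      have hlt : Nat.card H < Nat.card G := by
        refine lt_of_le_of_ne (Nat.le_of_dvd Nat.card_pos (card_subgroup_dvd_card H)) fun h => ?_
        exact hH (eq_top_of_card_eq _ h)
      refine ih H (by omega) (fun J hJ => ?_) fun q hq' hd =>
        hq q hq' (hd.trans (card_subgroup_dvd_card H))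
      have h := hab (J.map H.subtype) (by rwa [card_map_of_injective H.subtype_injective])
      exact ⟨⟨fun a b => Subtype.ext (Subtype.ext (congrArg Subtype.val
        (h.is_comm.comm ⟨_, mem_map_of_mem _ a.2⟩ ⟨_, mem_map_of_mem _ b.2⟩) :))⟩⟩
    by_cases hsimple : IsSimpleGroup G
    · exact (Setup.false_of_divides (p := p) ⟨hsimple, hcomm, hsub, hab, hpd⟩ hp5 hq).elim
    -- a proper non-trivial normal subgroup
    haveI : Nontrivial G := ⟨hcomm.choose, 1, fun h => by
      obtain ⟨b, hb⟩ := hcomm.choose_spec
      exact hb (by rw [h, one_mul, mul_one])⟩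
    obtain ⟨N, hN, hN1, hN2⟩ : ∃ N : Subgroup G, N.Normal ∧ N ≠ ⊥ ∧ N ≠ ⊤ := by
      by_contra hno
      push Not at hno
      exact hsimple ⟨fun N hN => or_iff_not_imp_left.mpr fun h => hno N hN h⟩
    haveI := hN
    have hNs := hsub N hN2
    refine CfsgLib.Base.isSolvable_of_normal N hNs ?_
    set π := QuotientGroup.mk' N with hπ
    have hπs : Function.Surjective π := QuotientGroup.mk'_surjective N
    have hlift : ∀ H : Subgroup (G ⧸ N), H ≠ ⊤ → (Nat.card H).Coprime p → IsMulCommutative H := by
      intro H hH hHc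
      set M := H.comap π with hM
      have hMtop : M ≠ ⊤ := fun h => hH (by
        rw [← map_comap_eq_self_of_surjective hπs H, ← hM, h, map_top_of_surjective π hπs])
      haveI := hsub M hMtop
      obtain ⟨J, hJ⟩ : ∃ J : Subgroup M, IsPiHall {q | q ≠ p} J :=
        let ⟨J, hJ, _⟩ := CfsgLib.Coprime.hallD_of_solvable (G := M) {q | q ≠ p}
        ⟨J, hJ⟩
      have hc := hab (J.map M.subtype) (by
        rw [card_map_of_injective M.subtype_injective]; exact pi_iff.mp hJ.1)
      -- `J` covers `H`
      set f : M →* G ⧸ N := π.comp M.subtype with hf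
      have hrange : f.range = H := by
        rw [hf, MonoidHom.range_comp, range_subtype, hM, map_comap_eq_self_of_surjective hπs]
      have hJH : J.map f = H := by
        refine le_antisymm (hrange ▸ map_le_range f J) ?_
        have h1 : (J.map f).relIndex H = 1 := by
          by_contra h
          obtain ⟨q, hq', hqd⟩ := Nat.exists_prime_and_dvd h
          refine hJ.2 q hq' ?_ ?_
          · rintro rfl
            exact hq'.ne_one (Nat.eq_one_of_dvd_coprimes hHc
              (hqd.trans (relIndex_dvd_card _ _)) dvd_rfl)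
          · refine hqd.trans ?_
            rw [← hrange, MonoidHom.range_eq_map, ← relIndex_top_right]
            exact CfsgLib.Coprime.relIndex_map_dvd f J ⊤
        exact relIndex_eq_one.mp h1
      rw [← hJH]
      refine ⟨⟨?_⟩⟩
      rintro ⟨_, a, ha, rfl⟩ ⟨_, b, hb, rfl⟩
      refine Subtype.ext ?_
      show f a * f b = f b * f a
      rw [← map_mul, ← map_mul, show a * b = b * a from Subtype.ext (congrArg Subtype.val
        (hc.is_comm.comm ⟨_, mem_map_of_mem _ ha⟩ ⟨_, mem_map_of_mem _ hb⟩) :)]
    by_cases hpq : p ∣ Nat.card (G ⧸ N)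
    · have hlt : Nat.card (G ⧸ N) ≤ n := by
        have h2 := card_eq_card_quotient_mul_card_subgroup N
        have h3 : 1 < Nat.card N := (one_lt_card_iff_ne_bot N).mpr hN1
        have h4 : 0 < Nat.card (G ⧸ N) := Nat.card_pos
        nlinarith
      refine ih _ hlt (fun H hHc => hlift H ?_ hHc) fun q hq' hd =>
        hq q hq' (hd.trans (card_quotient_dvd_card N))
      rintro rfl
      rw [card_top, Nat.coprime_comm, hp.out.coprime_iff_not_dvd] at hHc
      exact hHc hpq
    · -- `N` contains a Sylow `p`-subgroup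
      obtain ⟨P⟩ : Nonempty (Sylow p N) := inferInstance
      have hfr := Sylow.normalizer_sup_eq_top P
      set P' := (P : Subgroup N).map N.subtype with hP'
      by_cases hNP : normalizer (P' : Set G) = ⊤
      · haveI : P'.Normal := normalizer_eq_top_iff.mp hNP
        have hPp : IsPGroup p P' := P.2.map _
        obtain ⟨k, hk⟩ := hPp.exists_card_eq
        have hidx : ¬ p ∣ P'.index := by
          rw [hP', index_map_subtype]
          intro h
          rcases hp.out.dvd_mul.mp h with h | h
          · exact P.not_dvd_index h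
          · exact hpq (index_eq_card N ▸ h)
        obtain ⟨C, hC⟩ := exists_right_complement'_of_coprime (N := P') (by
          rw [hk]; exact (hp.out.coprime_iff_not_dvd.mpr hidx).pow_left k)
        have hCc := hab C (by
          rw [← hC.symm.index_eq_card, Nat.coprime_comm, hp.out.coprime_iff_not_dvd]
          exact hidx)
        refine Group.isSolvable_of_comm fun x y => ?_
        obtain ⟨x, rfl⟩ := hπs x
        obtain ⟨y, rfl⟩ := hπs y
        obtain ⟨s, hs, a, ha, rfl⟩ := mem_sup_of_normal_left.mp (hC.sup_eq_top ▸ mem_top x)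
        obtain ⟨t, ht, b, hb, rfl⟩ := mem_sup_of_normal_left.mp (hC.sup_eq_top ▸ mem_top y)
        have h1 : ∀ s ∈ P', π s = 1 := fun s hs => (QuotientGroup.eq_one_iff s).mpr
          ((map_subtype_le (P : Subgroup N)) hs)
        rw [map_mul, map_mul, h1 s hs, h1 t ht, one_mul, one_mul, ← map_mul, ← map_mul,
          show a * b = b * a from congrArg Subtype.val (hCc.is_comm.comm ⟨a, ha⟩ ⟨b, hb⟩)]
      · haveI := hsub _ hNP
        refine Group.isSolvable_of_surjective (f := π.comp (normalizer (P' : Set G)).subtype) fun x => ?_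
        obtain ⟨g, rfl⟩ := hπs x
        obtain ⟨a, ha, b, hb, rfl⟩ := mem_sup_of_normal_right.mp (hfr.symm ▸ mem_top g)
        refine ⟨⟨a, ha⟩, ?_⟩
        show π a = π (a * b)
        rw [map_mul, show π b = 1 from (QuotientGroup.eq_one_iff b).mpr hb, mul_one]

/-- If every `p'`-subgroup is abelian of exponent dividing `p - 1`, the group is solvable. -/
theorem isSolvable_of_abelian_pPrime {G : Type u} [Group G] [Finite G]
    (h : ∀ H : Subgroup G, (Nat.card H).Coprime p → IsMulCommutative H ∧
      ∀ x ∈ H, x ^ (p - 1) = 1) : Group.IsSolvable G := by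
  have hq : ∀ q : ℕ, q.Prime → q ∣ Nat.card G → q ≠ p → q ∣ p - 1 := by
    intro q hq hd hqp
    haveI : Fact q.Prime := ⟨hq⟩
    obtain ⟨x, hx⟩ := exists_prime_orderOf_dvd_card' q hd
    have := (h (zpowers x) (by
      rw [Nat.card_zpowers, hx]; exact (Nat.coprime_primes hq hp.out).mpr hqp)).2 x (mem_zpowers x)
    exact hx ▸ orderOf_dvd_of_pow_eq_one this
  by_cases hp5 : 5 ≤ p
  · exact isSolvable_aux hp5 _ G le_rfl (fun H hH => (h H hH).1) hq
  -- only two primes occur
  have hg : Nat.card G ≠ 0 := Nat.card_pos.ne'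
  have hpf : ∀ q ∈ (Nat.card G).primeFactors, q = 2 ∨ q = 3 := by
    intro q hq'
    obtain ⟨hqp, hqd, -⟩ := Nat.mem_primeFactors.mp hq'
    have h2 := hqp.two_le
    have h4 : p ≠ 4 := fun e => absurd (e ▸ hp.out) (by norm_num)
    by_cases e : q = p
    · omega
    · have h0 : 0 < p - 1 := by have := hp.out.two_le; omega
      have := Nat.le_of_dvd h0 (hq q hqp hqd e)
      omega
  obtain ⟨a, b, hab⟩ : ∃ a b, Nat.card G = 2 ^ a * 3 ^ b := by
    refine ⟨(Nat.card G).factorization 2, (Nat.card G).factorization 3, ?_⟩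
    conv_lhs => rw [← Nat.prod_factorization_pow_eq_self hg]
    rw [Finsupp.prod_of_support_subset _ (s := {2, 3}) (fun q hq' => by
      rw [Nat.support_factorization] at hq'
      simpa using hpf q hq') _ (fun _ _ => pow_zero _), Finset.prod_pair (by norm_num)]
  exact CfsgLib.Chars.isSolvable_of_card_eq_pow_mul_pow Nat.prime_two Nat.prime_three hab

end CfsgLib.FgsC.APP
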